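import Groth.Agent.CycLib.StalkSES
import Groth.Agent.QCoh.FlatOver
import Groth.Agent.QCoh.FT

/-!
# Stalks of cokernels
-/

set_option autoImplicit false
set_option backward.isDefEq.respectTransparency false
set_option backward.isDefEq.respectTransparency.types false

universe u

open CategoryTheory CategoryTheory.Limits AlgebraicGeometry TopologicalSpace Opposite

namespace Groth.Agent.H1FibInj

variable {X : Scheme.{u}} {F' F : X.Modules}

theorem stalkLin_comp {G : X.Modules} (φ : F' ⟶ F) (ψ : F ⟶ G) (x : X) (t : F'.presheaf.stalk x) :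
    CycLib.stalkLin (φ ≫ ψ) x t = CycLib.stalkLin ψ x (CycLib.stalkLin φ x t) := by
  obtain ⟨U, _, hx, n, rfl⟩ := CycLib.exists_germ_affine F' t
  show CycLib.stalkAdd (φ ≫ ψ) x _ = CycLib.stalkAdd ψ x (CycLib.stalkAdd φ x _)
  rw [CycLib.stalkAdd_germ, CycLib.stalkAdd_germ, CycLib.stalkAdd_germ]
  rfl

/-- The stalk of a cokernel is the cokernel of the stalk map. -/
theorem stalk_cokernel (hF' : Coh.IsQCoh F') (hF : Coh.IsQCoh F) (u : F' ⟶ F) (x : X) :
    Function.Surjective (CycLib.stalkLin (cokernel.π u) x) ∧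
      LinearMap.ker (CycLib.stalkLin (cokernel.π u) x) = LinearMap.range (CycLib.stalkLin u x) := by
  let T := ShortComplex.mk (Abelian.image.ι u) (cokernel.π u) (kernel.condition (cokernel.π u))
  have hC := QCoh.isQCoh_cokernel hF' hF u
  have hI : Coh.IsQCoh (Abelian.image u) := QCoh.isQCoh_kernel hF hC (cokernel.π u)
  have hex : T.Exact := T.exact_of_f_is_kernel (kernelIsKernel (cokernel.π u))
  have hT : T.ShortExact :=
    { exact := hex
      mono_f := show Mono (Abelian.image.ι u) from inferInstance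
      epi_g := show Epi (cokernel.π u) from inferInstance }
  obtain ⟨-, hexx, hsur⟩ := CycLib.stalk_shortExact hT hI hF hC x
  refine ⟨hsur, (LinearMap.exact_iff.1 hexx).trans (le_antisymm ?_ ?_)⟩
  · rintro _ ⟨w, rfl⟩
    obtain ⟨U, hU, hx, n, rfl⟩ := CycLib.exists_germ_affine (Abelian.image u) w
    obtain ⟨a, rfl⟩ := QCoh.app_surjective_of_epi hF' hI (Abelian.factorThruImage u) hU n
    refine ⟨F'.presheaf.germ U x hx a, ?_⟩
    rw [← CycLib.stalkAdd_germ]
    show _ = CycLib.stalkLin (Abelian.image.ι u) x (CycLib.stalkLin (Abelian.factorThruImage u) x _)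
    rw [← stalkLin_comp, Abelian.image.fac]
  · rintro _ ⟨t, rfl⟩
    refine ⟨CycLib.stalkLin (Abelian.factorThruImage u) x t, ?_⟩
    show CycLib.stalkLin (Abelian.image.ι u) x _ = _
    rw [← stalkLin_comp, Abelian.image.fac]

/-- Flatness of a cokernel at a point. -/
theorem isFlatOverAt_cokernel_iff {Y : Scheme.{u}} (f : X ⟶ Y) (hF' : Coh.IsQCoh F') (hF : Coh.IsQCoh F)
    (u : F' ⟶ F) {U : X.Opens} {V : Y.Opens} (hV : IsAffineOpen V) (hle : U ≤ f ⁻¹ᵁ V) {x : X} (hx : x ∈ U) :
    letI := QCoh.stalkModule F hx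
    letI := QCoh.stalkModule F' hx
    letI : Module Γ(Y, V) (F.presheaf.stalk x) :=
      Module.compHom _ ((f.appLE V U hle) ≫ X.presheaf.germ U x hx).hom
    letI : Algebra Γ(Y, V) Γ(X, U) := (f.appLE V U hle).hom.toAlgebra
    haveI : IsScalarTower Γ(Y, V) Γ(X, U) (F.presheaf.stalk x) := IsScalarTower.of_algebraMap_smul fun _ _ => rfl
    ∀ (u' : F'.presheaf.stalk x →ₗ[Γ(X, U)] F.presheaf.stalk x), (∀ t, u' t = CycLib.stalkLin u x t) →
      (FlatMod.IsFlatOverAt f (cokernel u) x ↔
        Module.Flat Γ(Y, V) (F.presheaf.stalk x ⧸ LinearMap.range u')) := by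
  letI := QCoh.stalkModule F hx
  letI := QCoh.stalkModule F' hx
  letI : Module Γ(Y, V) (F.presheaf.stalk x) :=
    Module.compHom _ ((f.appLE V U hle) ≫ X.presheaf.germ U x hx).hom
  letI : Algebra Γ(Y, V) Γ(X, U) := (f.appLE V U hle).hom.toAlgebra
  haveI : IsScalarTower Γ(Y, V) Γ(X, U) (F.presheaf.stalk x) := IsScalarTower.of_algebraMap_smul fun _ _ => rfl
  intro u' hu'
  rw [QCoh.isFlatOverAt_iff f hV hle hx]
  letI := QCoh.stalkModule (cokernel u) hx
  letI : Module Γ(Y, V) ((cokernel u).presheaf.stalk x) :=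
    Module.compHom _ ((f.appLE V U hle) ≫ X.presheaf.germ U x hx).hom
  haveI : IsScalarTower Γ(Y, V) Γ(X, U) ((cokernel u).presheaf.stalk x) :=
    IsScalarTower.of_algebraMap_smul fun _ _ => rfl
  obtain ⟨hsur, hker⟩ := stalk_cokernel hF' hF u x
  let π' : F.presheaf.stalk x →ₗ[Γ(X, U)] (cokernel u).presheaf.stalk x :=
    { toFun := CycLib.stalkLin (cokernel.π u) x
      map_add' := map_add _
      map_smul' := fun r m => map_smul _ (X.presheaf.germ U x hx r) m }
  have hk : LinearMap.range u' = LinearMap.ker π' := SetLike.ext fun m => by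
    show m ∈ LinearMap.range u' ↔ CycLib.stalkLin (cokernel.π u) x m = 0
    rw [← LinearMap.mem_ker, hker]
    simp only [LinearMap.mem_range, hu']
  let e : (F.presheaf.stalk x ⧸ LinearMap.range u') ≃ₗ[Γ(Y, V)] (cokernel u).presheaf.stalk x :=
    (Submodule.quotEquivOfEq _ _ hk ≪≫ₗ π'.quotKerEquivOfSurjective hsur).restrictScalars Γ(Y, V)
  exact ⟨fun h => haveI := h; Module.Flat.of_linearEquiv e, fun h => haveI := h; Module.Flat.of_linearEquiv e.symm⟩

end Groth.Agent.H1FibInj
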