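import Groth.Agent.H1FibInj.General
import Groth.Agent.H1FibInj.Sheaf
import Groth.Agent.W4Lib.Flat
import Groth.Agent.QCoh.SubCompare

/-!
# The criterion on charts
-/

set_option autoImplicit false
set_option backward.isDefEq.respectTransparency false
set_option backward.isDefEq.respectTransparency.types false
set_option linter.style.haveILetI false
set_option maxHeartbeats 1000000

universe u

open CategoryTheory CategoryTheory.Limits AlgebraicGeometry TopologicalSpace Opposite TensorProduct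

namespace Groth.Agent.H1FibInj

/-- Injective with flat cokernel gives injectivity modulo any ideal of the base. -/
theorem elementwise_of_flat {A B M K : Type u} [CommRing A] [CommRing B] [Algebra A B] [AddCommGroup M] [Module B M]
    [Module A M] [IsScalarTower A B M] [AddCommGroup K] [Module B K] [Module A K] [IsScalarTower A B K]
    (u : M →ₗ[B] K) (hu : Function.Injective u) [Module.Flat A (K ⧸ LinearMap.range u)] (p : Ideal A) (x : M)
    (hx : u x ∈ p • (⊤ : Submodule A K)) : x ∈ p • (⊤ : Submodule A M) := by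
  let π := (LinearMap.range u).mkQ
  have h := W4Lib.lTensor_injective_of_flat_quotient (f := u.restrictScalars A) (g := π.restrictScalars A) hu
    (LinearMap.exact_map_mkQ_range u) (Submodule.mkQ_surjective _) (A ⧸ p)
  rw [← S0393.one_tmul_eq_zero_iff] at hx ⊢
  exact h (by rw [map_zero]; exact hx)

variable {X Y : Scheme.{u}} (f : X ⟶ Y) {F F' : X.Modules} (u : F' ⟶ F) {U : X.Opens} {V : Y.Opens}

/-- The three dictionary entries at a point of an affine chart. -/
theorem chart (hF' : Coh.IsQCoh F') (hF : Coh.IsQCoh F) (hU : IsAffineOpen U) (hV : IsAffineOpen V)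
    (hle : U ≤ f ⁻¹ᵁ V) {x : X} (hx : x ∈ U) :
    letI : Algebra Γ(Y, V) Γ(X, U) := (f.appLE V U hle).hom.toAlgebra
    letI J : Ideal ↑(X.presheaf.stalk x) :=
      Ideal.map (f.stalkMap x).hom (IsLocalRing.maximalIdeal ↑(Y.presheaf.stalk (f x)))
    letI ux := (TopCat.Presheaf.stalkFunctor Ab x).map (Scheme.Modules.Hom.mapPresheaf u)
    ((Function.Injective ux ∧ FlatMod.IsFlatOverAt f (cokernel u) x) ↔
        Concl Γ(Y, V) (QCoh.appLin u U) (hU.primeIdealOf ⟨x, hx⟩)) ∧
      ((∀ m : ↑(F'.presheaf.stalk x),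
        ux m ∈ (J • (⊤ : Submodule ↑(X.presheaf.stalk x) ↑(F.presheaf.stalk x))) →
          m ∈ (J • (⊤ : Submodule ↑(X.presheaf.stalk x) ↑(F'.presheaf.stalk x)))) ↔
        FibInj Γ(Y, V) (QCoh.appLin u U) (hU.primeIdealOf ⟨x, hx⟩)) ∧
      (FlatMod.IsFlatOverAt f F x →
        Module.Flat Γ(Y, V) (Localization.AtPrime (hU.primeIdealOf ⟨x, hx⟩).asIdeal ⊗[Γ(X, U)] Γ(F, U))) ∧
      (Function.Injective ux → FlatMod.IsFlatOverAt f (cokernel u) x → ∀ m : ↑(F'.presheaf.stalk x),
        ux m ∈ (J • (⊤ : Submodule ↑(X.presheaf.stalk x) ↑(F.presheaf.stalk x))) →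
          m ∈ (J • (⊤ : Submodule ↑(X.presheaf.stalk x) ↑(F'.presheaf.stalk x)))) := by
  letI : Algebra Γ(Y, V) Γ(X, U) := (f.appLE V U hle).hom.toAlgebra
  let O := X.presheaf.stalk x
  let q := hU.primeIdealOf ⟨x, hx⟩
  letI := QCoh.stalkAlg (X := X) hx
  letI := QCoh.stalkModule F hx
  letI := QCoh.stalkModule F' hx
  letI : Module Γ(Y, V) (F.presheaf.stalk x) :=
    Module.compHom _ ((f.appLE V U hle) ≫ X.presheaf.germ U x hx).hom
  letI : Module Γ(Y, V) (F'.presheaf.stalk x) :=
    Module.compHom _ ((f.appLE V U hle) ≫ X.presheaf.germ U x hx).hom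
  letI : Algebra Γ(Y, V) O := ((f.appLE V U hle) ≫ X.presheaf.germ U x hx).hom.toAlgebra
  haveI : IsScalarTower Γ(Y, V) Γ(X, U) (F.presheaf.stalk x) := IsScalarTower.of_algebraMap_smul fun _ _ => rfl
  haveI : IsScalarTower Γ(Y, V) Γ(X, U) (F'.presheaf.stalk x) := IsScalarTower.of_algebraMap_smul fun _ _ => rfl
  haveI : IsScalarTower Γ(Y, V) O (F.presheaf.stalk x) := IsScalarTower.of_algebraMap_smul fun _ _ => rfl
  haveI : IsScalarTower Γ(Y, V) O (F'.presheaf.stalk x) := IsScalarTower.of_algebraMap_smul fun _ _ => rfl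
  haveI := QCoh.isLocalizedModule_germLin hF hU hx
  haveI := QCoh.isLocalizedModule_germLin hF' hU hx
  haveI := QCoh.isLocalization_stalk' hU hx
  let u' : F'.presheaf.stalk x →ₗ[Γ(X, U)] F.presheaf.stalk x :=
    { toFun := CycLib.stalkLin u x
      map_add' := map_add _
      map_smul' := fun r m => map_smul _ (X.presheaf.germ U x hx r) m }
  have hcomp : u' ∘ₗ QCoh.germLin F' hx = QCoh.germLin F hx ∘ₗ QCoh.appLin u U :=
    LinearMap.ext fun m => CycLib.stalkAdd_germ u x hx m
  let p := q.asIdeal.comap (algebraMap Γ(Y, V) Γ(X, U))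
  have hJ : Ideal.map (f.stalkMap x).hom (IsLocalRing.maximalIdeal ↑(Y.presheaf.stalk (f x))) =
      p.map (algebraMap Γ(Y, V) O) := by
    letI := QCoh.stalkAlg (X := Y) (U := V) (x := f.base x) (hle hx)
    haveI := QCoh.isLocalization_stalk' hV (hle hx)
    have hcom : (f.stalkMap x).hom.comp (algebraMap Γ(Y, V) (Y.presheaf.stalk (f x))) = algebraMap Γ(Y, V) O := by
      ext a
      show f.stalkMap x (Y.presheaf.germ V (f x) (hle hx) a) = X.presheaf.germ U x hx (f.appLE V U hle a)
      rw [Scheme.Hom.germ_stalkMap_apply f V x (hle hx) a]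
      exact (X.presheaf.germ_res_apply (homOfLE hle) x hx _).symm
    have h1 : (IsLocalRing.maximalIdeal O).comap (f.stalkMap x).hom = IsLocalRing.maximalIdeal _ :=
      ((IsLocalRing.local_hom_TFAE (f.stalkMap x).hom).out 0 4).1
        (inferInstance : IsLocalHom (f.stalkMap x).hom)
    have h2 : (IsLocalRing.maximalIdeal O).comap (algebraMap Γ(X, U) O) = q.asIdeal :=
      IsLocalization.AtPrime.comap_maximalIdeal (R := Γ(X, U)) (S := O) q.asIdeal
    have h3 : (IsLocalRing.maximalIdeal (Y.presheaf.stalk (f x))).comap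
        (algebraMap Γ(Y, V) (Y.presheaf.stalk (f x))) = (hV.primeIdealOf ⟨f.base x, hle hx⟩).asIdeal :=
      IsLocalization.AtPrime.comap_maximalIdeal (R := Γ(Y, V)) (S := Y.presheaf.stalk (f x)) _
    have hp : p = (hV.primeIdealOf ⟨f.base x, hle hx⟩).asIdeal := by
      rw [← h3, ← h1, Ideal.comap_comap, hcom]
      show q.asIdeal.comap _ = _
      rw [← h2, Ideal.comap_comap]
      rfl
    rw [hp, ← hcom, ← Ideal.map_map]
    exact congrArg _ (IsLocalization.AtPrime.map_eq_maximalIdeal _ _).symm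
  have key : ∀ {Z : Type u} [AddCommGroup Z] [Module O Z] [Module Γ(Y, V) Z] [IsScalarTower Γ(Y, V) O Z] (z : Z),
      z ∈ Ideal.map (f.stalkMap x).hom (IsLocalRing.maximalIdeal ↑(Y.presheaf.stalk (f x))) • (⊤ : Submodule O Z) ↔
        z ∈ p • (⊤ : Submodule Γ(Y, V) Z) := fun {Z} _ _ _ _ z => by
    rw [hJ, ← Submodule.restrictScalars_top Γ(Y, V) O, ← Ideal.smul_restrictScalars, Submodule.restrictScalars_mem]
  refine ⟨?_, ?_, fun h => ?_, fun hinj hfl m hm => ?_⟩
  · rw [concl_iff (A := Γ(Y, V)) (QCoh.appLin u U) q (QCoh.germLin F' hx) (QCoh.germLin F hx) u' hcomp]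
    exact and_congr Iff.rfl (isFlatOverAt_cokernel_iff f hF' hF u hV hle hx u' fun _ => rfl)
  · rw [fibInj_iff (A := Γ(Y, V)) (QCoh.appLin u U) q (QCoh.germLin F' hx) (QCoh.germLin F hx) u' hcomp]
    exact forall_congr' fun m => imp_congr (key (Z := F.presheaf.stalk x) _) (key (Z := F'.presheaf.stalk x) _)
  · rw [QCoh.isFlatOverAt_iff f hV hle hx] at h
    haveI := h
    exact Module.Flat.of_linearEquiv ((IsLocalizedModule.linearEquiv q.asIdeal.primeCompl
      (TensorProduct.mk Γ(X, U) (Localization.AtPrime q.asIdeal) Γ(F, U) 1) (QCoh.germLin F hx)).restrictScalars Γ(Y, V))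
  · haveI := (isFlatOverAt_cokernel_iff f hF' hF u hV hle hx u' fun _ => rfl).1 hfl
    exact (key (Z := F'.presheaf.stalk x) _).2
      (elementwise_of_flat u' hinj p m ((key (Z := F.presheaf.stalk x) _).1 hm))

end Groth.Agent.H1FibInj
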