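import Groth.Agent.H1RectCons.FreeBC
import Groth.Agent.H1RectCons.Constr
import Groth.Agent.FlatLoc6.FiberRing
import Groth.Agent.S6284
import Groth.Agent.S0393
import Mathlib

/-!
# Injectivity on fibres: base change and the Noetherian criterion
-/

universe u

set_option backward.isDefEq.respectTransparency false
set_option backward.isDefEq.respectTransparency.types false
set_option linter.style.haveILetI false
set_option maxHeartbeats 2000000
set_option synthInstance.maxHeartbeats 200000

open TensorProduct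
open Groth.Agent.H1RectCons

namespace Groth.Agent.H1FibInj

/-- `u` is injective on the local ring of the fibre at `q`. -/
def FibInj (A : Type u) {B M N : Type u} [CommRing A] [CommRing B] [Algebra A B] [AddCommGroup M] [Module B M]
    [AddCommGroup N] [Module B N] (u : M →ₗ[B] N) (q : PrimeSpectrum B) : Prop :=
  Function.Injective (u.lTensor (EGA4.FibLocRing A B q.asIdeal))

theorem injective_lTensor_congr {B O O' : Type u} [CommRing B] [AddCommGroup O] [Module B O] [AddCommGroup O']
    [Module B O'] {M N : Type u} [AddCommGroup M] [Module B M] [AddCommGroup N] [Module B N] (ε : O ≃ₗ[B] O')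
    (u : M →ₗ[B] N) : Function.Injective (u.lTensor O) ↔ Function.Injective (u.lTensor O') := by
  have h : u.lTensor O' ∘ₗ (ε.rTensor M).toLinearMap = (ε.rTensor N).toLinearMap ∘ₗ u.lTensor O :=
    TensorProduct.ext' fun _ _ => rfl
  have h' : u.lTensor O' ∘ ε.rTensor M = ε.rTensor N ∘ u.lTensor O := funext fun x => LinearMap.congr_fun h x
  rw [← Function.Injective.of_comp_iff (ε.rTensor N).injective, ← h', Function.Injective.of_comp_iff' _ (ε.rTensor M).bijective]

theorem injective_congr_equiv {B O M N M' N' : Type u} [CommRing B] [AddCommGroup O] [Module B O]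
    [AddCommGroup M] [Module B M] [AddCommGroup N] [Module B N] [AddCommGroup M'] [Module B M'] [AddCommGroup N']
    [Module B N'] {u : M →ₗ[B] N} {u' : M' →ₗ[B] N'} (εM : M ≃ₗ[B] M') (εN : N ≃ₗ[B] N')
    (h : u' ∘ₗ εM.toLinearMap = εN.toLinearMap ∘ₗ u) :
    Function.Injective (u.lTensor O) ↔ Function.Injective (u'.lTensor O) := by
  have h1 : u'.lTensor O ∘ₗ (εM.lTensor O).toLinearMap = (εN.lTensor O).toLinearMap ∘ₗ u.lTensor O := by
    rw [LinearEquiv.coe_lTensor, LinearEquiv.coe_lTensor, ← LinearMap.lTensor_comp, h, LinearMap.lTensor_comp]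
  have h' : u'.lTensor O ∘ εM.lTensor O = εN.lTensor O ∘ u.lTensor O := funext fun x => LinearMap.congr_fun h1 x
  rw [← Function.Injective.of_comp_iff (εN.lTensor O).injective, ← h', Function.Injective.of_comp_iff' _ (εM.lTensor O).bijective]

theorem fibInj_congr {A B M N M' N' : Type u} [CommRing A] [CommRing B] [Algebra A B] [AddCommGroup M] [Module B M]
    [AddCommGroup N] [Module B N] [AddCommGroup M'] [Module B M'] [AddCommGroup N'] [Module B N']
    {u : M →ₗ[B] N} {u' : M' →ₗ[B] N'} (εM : M ≃ₗ[B] M') (εN : N ≃ₗ[B] N')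
    (h : u' ∘ₗ εM.toLinearMap = εN.toLinearMap ∘ₗ u) (q : PrimeSpectrum B) : FibInj A u q ↔ FibInj A u' q :=
  injective_congr_equiv εM εN h

section Transfer

variable {A A' B B' : Type u} [CommRing A] [CommRing A'] [CommRing B] [CommRing B'] [Algebra A A'] [Algebra A B]
  [Algebra A' B'] [Algebra B B'] [Algebra A B'] [IsScalarTower A B B'] [IsScalarTower A A' B']
  [Algebra.IsPushout A A' B B']

theorem fibInj_transfer (hdiv : IsDiv A A') {M N : Type u} [AddCommGroup M] [Module B M] [AddCommGroup N] [Module B N]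
    (u : M →ₗ[B] N) (q' : PrimeSpectrum B') :
    FibInj A u (PrimeSpectrum.comap (algebraMap B B') q') ↔ FibInj A' (u.baseChange B') q' := by
  obtain ⟨ε⟩ := exists_fibLocRing_equiv (B := B) hdiv q'.asIdeal
  exact (injective_lTensor_congr ε.toLinearEquiv u).trans
    (injective_lTensor_cancel (S := B') (T := EGA4.FibLocRing A' B' q'.asIdeal) u).symm

end Transfer

/-- Over a field the criterion is about the support of the kernel. -/
theorem fibInj_field {k B M N : Type u} [Field k] [CommRing B] [Algebra k B] [AddCommGroup M] [Module B M]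
    [AddCommGroup N] [Module B N] (u : M →ₗ[B] N) (q : PrimeSpectrum B) :
    FibInj k u q ↔ q ∉ Module.support B (LinearMap.ker u) := by
  let L := Localization.AtPrime q.asIdeal
  haveI : Module.Flat B L := IsLocalization.flat L q.asIdeal.primeCompl
  haveI : Nontrivial (EGA4.FibLocRing k B q.asIdeal) := FlatLoc6.fibLocRing_nontrivial q.asIdeal
  let mk := Ideal.Quotient.mkₐ B ((q.asIdeal.comap (algebraMap k B)).map (algebraMap k L))
  have hmk : Function.Bijective mk := by
    refine ⟨?_, Ideal.Quotient.mk_surjective⟩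
    rw [injective_iff_map_eq_zero]
    intro x hx
    have hbot : q.asIdeal.comap (algebraMap k B) = ⊥ :=
      (Ideal.eq_bot_or_top _).resolve_right (Ideal.IsPrime.ne_top inferInstance)
    have hx' := Ideal.Quotient.eq_zero_iff_mem.1 hx
    rw [hbot, Ideal.map_bot, Ideal.mem_bot] at hx'
    exact hx'
  unfold FibInj
  rw [← injective_lTensor_congr (AlgEquiv.ofBijective mk hmk).toLinearEquiv u,
    Module.notMem_support_iff, (LocalizedModule.equivTensorProduct q.asIdeal.primeCompl (LinearMap.ker u)).subsingleton_congr,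
    (LinearMap.tensorKerEquiv L L u).subsingleton_congr, Submodule.subsingleton_iff_eq_bot, LinearMap.ker_eq_bot]
  rfl

section Square

variable {A₀ A B₀ B A₁ B₁ A₂ B₂ : Type u} [CommRing A₀] [CommRing A] [CommRing B₀] [CommRing B]
  [Field A₁] [CommRing B₁] [Field A₂] [CommRing B₂]
  [Algebra A₀ A] [Algebra A₀ B₀] [Algebra A B] [Algebra B₀ B]
  [Algebra A₀ A₁] [Algebra B₀ B₁] [Algebra A₀ B₁] [Algebra A₁ B₁] [IsScalarTower A₀ B₀ B₁] [IsScalarTower A₀ A₁ B₁]
  [Algebra.IsPushout A₀ A₁ B₀ B₁]
  [Algebra A A₂] [Algebra B B₂] [Algebra A B₂] [Algebra A₂ B₂] [IsScalarTower A B B₂] [IsScalarTower A A₂ B₂]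
  [Algebra.IsPushout A A₂ B B₂]
  [Algebra A₁ A₂] [Algebra B₁ B₂] [Algebra A₁ B₂] [IsScalarTower A₁ B₁ B₂] [IsScalarTower A₁ A₂ B₂]
  [Algebra.IsPushout A₁ A₂ B₁ B₂]
  [Algebra B₀ B₂] [IsScalarTower B₀ B₁ B₂] [IsScalarTower B₀ B B₂]

variable (A₁ B₁) in
include A₁ B₁ in
theorem fibInj_square [Algebra.FiniteType A₀ B₀] (h₁ : IsDiv A₀ A₁) (h₂ : IsDiv A A₂) {M N : Type u}
    [AddCommGroup M] [Module B₀ M] [Module.Finite B₀ M] [AddCommGroup N] [Module B₀ N] (u : M →ₗ[B₀] N)
    (q₂ : PrimeSpectrum B₂) :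
    FibInj A (u.baseChange B) (PrimeSpectrum.comap (algebraMap B B₂) q₂) ↔
      FibInj A₀ u (PrimeSpectrum.comap (algebraMap B₀ B) (PrimeSpectrum.comap (algebraMap B B₂) q₂)) := by
  haveI : Algebra.FiniteType A₁ B₁ := Algebra.FiniteType.equiv inferInstance (Algebra.IsPushout.equiv A₀ A₁ B₀ B₁)
  haveI : IsNoetherianRing B₁ := Algebra.FiniteType.isNoetherianRing A₁ B₁
  haveI : Module.Flat B₁ B₂ := by
    haveI : Algebra.IsPushout A₁ B₁ A₂ B₂ := Algebra.IsPushout.symm inferInstance
    exact Module.Flat.of_linearEquiv (Algebra.IsPushout.equiv A₁ B₁ A₂ B₂).symm.toLinearEquiv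
  have hpt : PrimeSpectrum.comap (algebraMap B₀ B) (PrimeSpectrum.comap (algebraMap B B₂) q₂) =
      PrimeSpectrum.comap (algebraMap B₀ B₁) (PrimeSpectrum.comap (algebraMap B₁ B₂) q₂) := by
    rw [← PrimeSpectrum.comap_comp_apply, ← PrimeSpectrum.comap_comp_apply, ← IsScalarTower.algebraMap_eq,
      ← IsScalarTower.algebraMap_eq]
  rw [hpt, fibInj_transfer h₁ u, fibInj_transfer h₂ (u.baseChange B)]
  let eM := (AlgebraTensorModule.cancelBaseChange B₀ B B₂ B₂ M).trans
    (AlgebraTensorModule.cancelBaseChange B₀ B₁ B₂ B₂ M).symm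
  let eN := (AlgebraTensorModule.cancelBaseChange B₀ B B₂ B₂ N).trans
    (AlgebraTensorModule.cancelBaseChange B₀ B₁ B₂ B₂ N).symm
  rw [fibInj_congr (u' := (u.baseChange B₁).baseChange B₂) eM eN (by
      refine LinearMap.ext fun z => ?_
      induction z using TensorProduct.induction_on with
      | zero => simp
      | add a b ha hb => simp only [map_add, ha, hb]
      | tmul o w =>
        induction w using TensorProduct.induction_on with
        | zero => simp
        | add a b ha hb => simp only [tmul_add, map_add, ha, hb]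
        | tmul l k => simp [eM, eN]) q₂]
  rw [fibInj_field, fibInj_field]
  have hker : Module.support B₂ (LinearMap.ker ((u.baseChange B₁).baseChange B₂)) =
      PrimeSpectrum.comap (algebraMap B₁ B₂) ⁻¹' Module.support B₁ (LinearMap.ker (u.baseChange B₁)) := by
    haveI : Module.Finite B₁ (B₁ ⊗[B₀] M) := Module.Finite.base_change B₀ B₁ M
    haveI : Module.Finite B₁ (LinearMap.ker (u.baseChange B₁)) :=
      Module.Finite.iff_fg.2 (IsNoetherian.noetherian _)
    exact ((LinearMap.tensorKerEquiv B₂ B₂ (u.baseChange B₁)).support_eq).symm.trans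
      (S6284.result (R' := B₂) (LinearMap.ker (u.baseChange B₁)))
  rw [hker, Set.mem_preimage]

end Square

section BaseChange

variable {A₀ A B₀ B : Type u} [CommRing A₀] [CommRing A] [CommRing B₀] [CommRing B] [Algebra A₀ A] [Algebra A₀ B₀]
  [Algebra A B] [Algebra B₀ B] [Algebra A₀ B] [IsScalarTower A₀ B₀ B] [IsScalarTower A₀ A B]
  [Algebra.IsPushout A₀ A B₀ B]

variable (A₀ A) in
include A₀ in
/-- Injectivity on fibres commutes with base change. -/
theorem fibInj_baseChange [Algebra.FiniteType A₀ B₀] {M N : Type u} [AddCommGroup M] [Module B₀ M]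
    [Module.Finite B₀ M] [AddCommGroup N] [Module B₀ N] (u : M →ₗ[B₀] N) (q : PrimeSpectrum B) :
    FibInj A (u.baseChange B) q ↔ FibInj A₀ u (PrimeSpectrum.comap (algebraMap B₀ B) q) := by
  let p := q.asIdeal.comap (algebraMap A B)
  let p₀ := p.comap (algebraMap A₀ A)
  let k := p.ResidueField
  let k₀ := p₀.ResidueField
  letI : Algebra k₀ k := (Ideal.ResidueField.map p₀ p (algebraMap A₀ A) rfl).toAlgebra
  haveI : IsScalarTower A₀ k₀ k := IsScalarTower.of_algebraMap_eq fun x => by
    rw [RingHom.algebraMap_toAlgebra, Ideal.ResidueField.map_algebraMap, ← IsScalarTower.algebraMap_apply]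
  let B₁ := k₀ ⊗[A₀] B₀
  let B₂ := k ⊗[A] B
  letI : Algebra B₀ B₁ := Algebra.TensorProduct.rightAlgebra
  letI : Algebra B B₂ := Algebra.TensorProduct.rightAlgebra
  letI : Algebra B₀ B₂ := ((algebraMap B B₂).comp (algebraMap B₀ B)).toAlgebra
  haveI : IsScalarTower B₀ B B₂ := IsScalarTower.of_algebraMap_eq fun _ => rfl
  haveI : IsScalarTower A₀ B B₂ := IsScalarTower.of_algebraMap_eq fun x => by
    rw [IsScalarTower.algebraMap_apply A₀ A B, ← IsScalarTower.algebraMap_apply A B B₂,
      ← IsScalarTower.algebraMap_apply A₀ A B₂]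
  haveI : IsScalarTower A₀ B₀ B₂ := IsScalarTower.of_algebraMap_eq fun x => by
    rw [IsScalarTower.algebraMap_apply B₀ B B₂, ← IsScalarTower.algebraMap_apply A₀ B₀ B,
      ← IsScalarTower.algebraMap_apply A₀ B B₂]
  let φ : B₁ →ₐ[A₀] B₂ := Algebra.pushoutDesc B₁
    ((IsScalarTower.toAlgHom A₀ k B₂).comp (IsScalarTower.toAlgHom A₀ k₀ k))
    (IsScalarTower.toAlgHom A₀ B₀ B₂) fun _ _ => mul_comm _ _
  have hφr : ∀ b : B₀, φ (algebraMap B₀ B₁ b) = algebraMap B₀ B₂ b := fun b =>
    Algebra.pushoutDesc_right (R := A₀) (S := k₀) (R' := B₀) B₁ _ _ _ b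
  have hφl : ∀ b : k₀, φ (algebraMap k₀ B₁ b) = algebraMap k B₂ (algebraMap k₀ k b) := fun b =>
    Algebra.pushoutDesc_left (R := A₀) (S := k₀) (R' := B₀) B₁ _ _ _ b
  letI : Algebra B₁ B₂ := φ.toRingHom.toAlgebra
  haveI : IsScalarTower B₀ B₁ B₂ := IsScalarTower.of_algebraMap_eq fun b => by
    exact (hφr b).symm
  haveI : IsScalarTower A₀ B₁ B₂ := IsScalarTower.of_algebraMap_eq fun b => (φ.commutes b).symm
  haveI : IsScalarTower k₀ k B₂ := IsScalarTower.of_algebraMap_eq fun _ => rfl
  haveI : IsScalarTower k₀ B₁ B₂ := IsScalarTower.of_algebraMap_eq fun b => by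
    exact ((IsScalarTower.algebraMap_apply k₀ k B₂ b).trans (hφl b).symm :)
  haveI h₀ : Algebra.IsPushout A₀ k B₀ B₂ :=
    (Algebra.IsPushout.comp_iff A₀ A B₀ B (T := k) (T' := B₂)).2 inferInstance
  haveI : Algebra.IsPushout k₀ k B₁ B₂ :=
    (Algebra.IsPushout.comp_iff A₀ k₀ B₀ B₁ (T := k) (T' := B₂)).1 h₀
  obtain ⟨q₂, hq₂⟩ := exists_point_over B₂ (isDiv_residueField p) q
    (fun a ha => Ideal.algebraMap_residueField_eq_zero.1 ha)
    (fun s hs hsq => hs.ne_zero (Ideal.algebraMap_residueField_eq_zero.2 hsq))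
  rw [← hq₂]
  exact fibInj_square (A₁ := k₀) (B₁ := B₁) (A₂ := k) (isDiv_residueField p₀) (isDiv_residueField p) u q₂

end BaseChange

section Local

/-- The local criterion in tensor form. -/
theorem local_criterion {A L M N : Type u} [CommRing A] [IsLocalRing A] [CommRing L] [IsLocalRing L]
    [IsNoetherianRing L] [Algebra A L] [IsLocalHom (algebraMap A L)] [AddCommGroup M] [Module L M] [Module A M]
    [IsScalarTower A L M] [Module.Finite L M] [AddCommGroup N] [Module L N] [Module A N] [IsScalarTower A L N]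
    [Module.Flat A N] (u : M →ₗ[L] N)
    (h : Function.Injective (u.lTensor (L ⧸ (IsLocalRing.maximalIdeal A).map (algebraMap A L)))) :
    Function.Injective u ∧ Module.Flat A (N ⧸ LinearMap.range (u.restrictScalars A)) := by
  refine S0393.result (S := L) (u.restrictScalars A) ?_
  rw [injective_iff_map_eq_zero]
  intro z hz
  obtain ⟨x, rfl⟩ := S0393.exists_one_tmul (IsLocalRing.maximalIdeal A) z
  have h1 : u x ∈ (IsLocalRing.maximalIdeal A) • (⊤ : Submodule A N) :=
    (S0393.one_tmul_eq_zero_iff _ _).1 hz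
  rw [← Submodule.restrictScalars_top A L, ← Ideal.smul_restrictScalars, Submodule.restrictScalars_mem,
    ← S0393.one_tmul_eq_zero_iff] at h1
  have h2 : (1 : L ⧸ (IsLocalRing.maximalIdeal A).map (algebraMap A L)) ⊗ₜ[L] x = 0 :=
    h (by rw [map_zero]; exact h1)
  rw [S0393.one_tmul_eq_zero_iff, ← Submodule.restrictScalars_mem A, Ideal.smul_restrictScalars,
    Submodule.restrictScalars_top] at h2
  exact (S0393.one_tmul_eq_zero_iff _ _).2 h2

end Local

end Groth.Agent.H1FibInj
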