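import Groth.Agent.H1FibInj.Basic
import Groth.Agent.FlatLoc6.Loc
import Mathlib

/-!
# Injectivity on a fibre spreads to the local ring when there is a Noetherian model
-/

universe u

set_option backward.isDefEq.respectTransparency false
set_option backward.isDefEq.respectTransparency.types false
set_option linter.style.haveILetI false
set_option maxHeartbeats 2000000
set_option synthInstance.maxHeartbeats 200000

open TensorProduct
open Groth.Agent.H1RectCons

namespace Groth.Agent.H1FibInj

section Local

variable {A B : Type u} [CommRing A] [CommRing B] [Algebra A B] [IsNoetherianRing B] (q : PrimeSpectrum B)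

/-- The criterion at a point, Noetherian case. -/
theorem noetherian_criterion {M N : Type u} [AddCommGroup M] [Module B M] [Module.Finite B M] [AddCommGroup N]
    [Module B N] [Module A N] [IsScalarTower A B N] [Module.Flat A N] (u : M →ₗ[B] N) (h : FibInj A u q) :
    Function.Injective (u.lTensor (Localization.AtPrime q.asIdeal)) ∧
      Module.Flat A (Localization.AtPrime q.asIdeal ⊗[B] (N ⧸ LinearMap.range u)) := by
  let L := Localization.AtPrime q.asIdeal
  let p := q.asIdeal.comap (algebraMap A B)
  let A' := Localization.AtPrime p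
  haveI : q.asIdeal.LiesOver p := ⟨rfl⟩
  letI : Algebra A' L := Localization.AtPrime.algebraOfLiesOver p q.asIdeal
  haveI : IsLocalHom (algebraMap A' L) :=
    Localization.isLocalHom_localRingHom p q.asIdeal (algebraMap A B) Ideal.LiesOver.over
  haveI : SMulCommClass B A' L := ⟨fun a b c => by
    rw [Algebra.smul_def, Algebra.smul_def, Algebra.smul_def, Algebra.smul_def]; ring⟩
  haveI : Module.Flat B L := IsLocalization.flat L q.asIdeal.primeCompl
  haveI : Module.Flat A (L ⊗[B] N) := FlatLoc6.flat_baseChange_left N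
  haveI : Module.Flat A' (L ⊗[B] N) := (Module.flat_iff_of_isLocalization A' p.primeCompl _).2 ‹_›
  haveI : Module.Finite L (L ⊗[B] M) := Module.Finite.base_change B L M
  have hmA : (IsLocalRing.maximalIdeal A').map (algebraMap A' L) = p.map (algebraMap A L) := by
    rw [← IsLocalization.AtPrime.map_eq_maximalIdeal p A', Ideal.map_map, ← IsScalarTower.algebraMap_eq]
  have hfib : Function.Injective ((u.baseChange L).lTensor (L ⧸ (IsLocalRing.maximalIdeal A').map (algebraMap A' L))) := by
    rw [hmA]
    exact (injective_lTensor_cancel (S := L) (T := EGA4.FibLocRing A B q.asIdeal) u).2 h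
  obtain ⟨hinj, hflat⟩ := local_criterion (A := A') (L := L) (u.baseChange L) hfib
  refine ⟨hinj, ?_⟩
  let Q : Submodule L (L ⊗[B] N) := LinearMap.range (u.baseChange L)
  have hrange : LinearMap.range ((u.baseChange L).restrictScalars A') = Q.restrictScalars A' :=
    LinearMap.range_restrictScalars (u.baseChange L)
  haveI : Module.Flat A' ((L ⊗[B] N) ⧸ Q.restrictScalars A') := hrange ▸ hflat
  haveI : Module.Flat A' ((L ⊗[B] N) ⧸ Q) :=
    Module.Flat.of_linearEquiv (Submodule.Quotient.restrictScalarsEquiv A' Q).symm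
  haveI : Module.Flat A ((L ⊗[B] N) ⧸ Q) := Module.Flat.trans A A' _
  have hπ : Function.Surjective ((LinearMap.range u).mkQ.baseChange L) :=
    LinearMap.lTensor_surjective L (Submodule.mkQ_surjective _)
  have hex : Function.Exact (u.baseChange L) ((LinearMap.range u).mkQ.baseChange L) :=
    lTensor_exact L (LinearMap.exact_map_mkQ_range u) (Submodule.mkQ_surjective _)
  let e : ((L ⊗[B] N) ⧸ Q) ≃ₗ[L] L ⊗[B] (N ⧸ LinearMap.range u) :=
    (Submodule.quotEquivOfEq Q _ (LinearMap.exact_iff.1 hex).symm).trans
      (((LinearMap.range u).mkQ.baseChange L).quotKerEquivOfSurjective hπ)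
  exact Module.Flat.of_linearEquiv (e.restrictScalars A).symm

end Local

section Model

variable {A₀ A B₀ B : Type u} [CommRing A₀] [CommRing A] [CommRing B₀] [CommRing B] [Algebra A₀ A] [Algebra A₀ B₀]
  [Algebra A B] [Algebra B₀ B] [Algebra A₀ B] [IsScalarTower A₀ B₀ B] [IsScalarTower A₀ A B]
  [Algebra.IsPushout A₀ A B₀ B]

variable (A₀ A) in
include A₀ in
/-- The criterion from a Noetherian model. -/
theorem model_criterion [IsNoetherianRing A₀] [Algebra.FiniteType A₀ B₀] {M N : Type u} [AddCommGroup M]
    [Module B₀ M] [Module.Finite B₀ M] [AddCommGroup N] [Module B₀ N] [Module A₀ N] [IsScalarTower A₀ B₀ N]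
    [Module.Flat A₀ N] (u : M →ₗ[B₀] N) (q : PrimeSpectrum B) (h : FibInj A (u.baseChange B) q) :
    Function.Injective ((u.baseChange B).lTensor (Localization.AtPrime q.asIdeal)) ∧
      Module.Flat A (Localization.AtPrime q.asIdeal ⊗[B] (B ⊗[B₀] (N ⧸ LinearMap.range u))) := by
  haveI : IsNoetherianRing B₀ := Algebra.FiniteType.isNoetherianRing A₀ B₀
  let q₀ := PrimeSpectrum.comap (algebraMap B₀ B) q
  obtain ⟨hinj, hflat⟩ := noetherian_criterion q₀ u ((fibInj_baseChange A₀ A u q).1 h)
  haveI := hflat
  let L₀ := Localization.AtPrime q₀.asIdeal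
  let P' := L₀ ⊗[B₀] B
  letI : Algebra B P' := Algebra.TensorProduct.rightAlgebra
  letI : Algebra A P' := ((algebraMap B P').comp (algebraMap A B)).toAlgebra
  haveI : IsScalarTower A B P' := IsScalarTower.of_algebraMap_eq fun _ => rfl
  haveI : IsScalarTower A₀ B P' := IsScalarTower.of_algebraMap_eq fun x => by
    rw [IsScalarTower.algebraMap_apply A₀ B₀ B, ← IsScalarTower.algebraMap_apply B₀ B P',
      IsScalarTower.algebraMap_apply A₀ B₀ P']
  haveI : IsScalarTower A₀ A P' := IsScalarTower.of_algebraMap_eq fun x => by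
    rw [IsScalarTower.algebraMap_apply A B P', ← IsScalarTower.algebraMap_apply A₀ A B,
      IsScalarTower.algebraMap_apply A₀ B P']
  haveI h1 : Algebra.IsPushout B₀ L₀ B P' := inferInstance
  haveI : Algebra.IsPushout A₀ B₀ A B := Algebra.IsPushout.symm inferInstance
  haveI : Algebra.IsPushout A₀ A L₀ P' :=
    Algebra.IsPushout.symm ((Algebra.IsPushout.comp_iff A₀ B₀ A B (T := L₀) (T' := P')).2 h1)
  haveI : IsLocalization (Algebra.algebraMapSubmonoid B q₀.asIdeal.primeCompl) P' :=
    (Algebra.isLocalization_iff_isPushout q₀.asIdeal.primeCompl L₀).2 (Algebra.IsPushout.symm h1)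
  let L := Localization.AtPrime q.asIdeal
  have hle : Algebra.algebraMapSubmonoid B q₀.asIdeal.primeCompl ≤ q.asIdeal.primeCompl := by
    rintro _ ⟨s, hs, rfl⟩
    exact hs
  letI : Algebra P' L := IsLocalization.localizationAlgebraOfSubmonoidLe P' L _ q.asIdeal.primeCompl hle
  haveI : IsScalarTower B P' L := IsLocalization.localization_isScalarTower_of_submonoid_le P' L _ _ hle
  haveI := IsLocalization.isLocalization_of_submonoid_le P' L
    (Algebra.algebraMapSubmonoid B q₀.asIdeal.primeCompl) q.asIdeal.primeCompl hle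
  haveI : Module.Flat P' L := IsLocalization.flat L (q.asIdeal.primeCompl.map (algebraMap B P'))
  haveI : IsScalarTower A P' L := IsScalarTower.of_algebraMap_eq fun x => by
    rw [IsScalarTower.algebraMap_apply A B P', ← IsScalarTower.algebraMap_apply B P' L,
      IsScalarTower.algebraMap_apply A B L]
  letI : Algebra L₀ L := ((algebraMap P' L).comp (algebraMap L₀ P')).toAlgebra
  haveI : IsScalarTower L₀ P' L := IsScalarTower.of_algebraMap_eq (R := L₀) (S := P') (A := L) fun _ => rfl
  haveI : IsScalarTower B₀ L₀ L := IsScalarTower.of_algebraMap_eq fun x => by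
    rw [IsScalarTower.algebraMap_apply L₀ P' L, ← IsScalarTower.algebraMap_apply B₀ L₀ P',
      IsScalarTower.algebraMap_apply B₀ B P', ← IsScalarTower.algebraMap_apply B P' L,
      ← IsScalarTower.algebraMap_apply B₀ B L]
  have hexL : Function.Exact (u.baseChange L₀) ((LinearMap.range u).mkQ.baseChange L₀) :=
    lTensor_exact L₀ (LinearMap.exact_map_mkQ_range u) (Submodule.mkQ_surjective _)
  have hsL : Function.Surjective ((LinearMap.range u).mkQ.baseChange L₀) :=
    LinearMap.lTensor_surjective L₀ (Submodule.mkQ_surjective _)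
  have hinj' : Function.Injective ((u.baseChange L₀).baseChange P') :=
    baseChange_injective A₀ A (u.baseChange L₀) ((LinearMap.range u).mkQ.baseChange L₀) hinj hexL hsL
  haveI : SMulCommClass L₀ A P' := ⟨fun a b c =>
    ((Algebra.smul_def a (b • c)).trans (congrArg (algebraMap L₀ P' a * ·) (Algebra.smul_def b c))).trans
      ((mul_left_comm _ _ _).trans
        ((Algebra.smul_def b (a • c)).trans (congrArg (algebraMap A P' b * ·) (Algebra.smul_def a c))).symm)⟩
  haveI : Module.Flat A (P' ⊗[L₀] (L₀ ⊗[B₀] (N ⧸ LinearMap.range u))) := by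
    exact Module.Flat.of_linearEquiv (Algebra.IsPushout.cancelBaseChange A₀ A L₀ P' _)
  refine ⟨?_, ?_⟩
  · rw [injective_lTensor_cancel, ← injective_lTensor_cancel (S := L₀) (T := L) u,
      ← injective_lTensor_cancel (S := P') (T := L) (u.baseChange L₀)]
    exact Module.Flat.lTensor_preserves_injective_linearMap _ hinj'
  · haveI : Module.Flat A (L ⊗[P'] (P' ⊗[L₀] (L₀ ⊗[B₀] (N ⧸ LinearMap.range u)))) :=
      by exact FlatLoc6.flat_baseChange_left (A := A) (B := P') (C := L) (P' ⊗[L₀] (L₀ ⊗[B₀] (N ⧸ LinearMap.range u)))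
    exact Module.Flat.of_linearEquiv
      (((AlgebraTensorModule.cancelBaseChange B₀ B L L (N ⧸ LinearMap.range u)).trans
        (AlgebraTensorModule.cancelBaseChange B₀ L₀ L L (N ⧸ LinearMap.range u)).symm).trans
        (AlgebraTensorModule.cancelBaseChange L₀ P' L L _).symm |>.restrictScalars A)

end Model

end Groth.Agent.H1FibInj
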