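import Groth.Agent.H1FibInj.General
import Groth.Agent.H1FibInj.OpenLocus
import Groth.Agent.H1FibInj.Chart
import Mathlib

/-!
# Fibrewise exactness of complexes of finite free modules
-/

universe u

set_option backward.isDefEq.respectTransparency false
set_option backward.isDefEq.respectTransparency.types false
set_option linter.style.haveILetI false
set_option maxHeartbeats 1000000
set_option synthInstance.maxHeartbeats 100000

open TensorProduct

namespace Groth.Agent.H1FibInj

section Abstract

variable {A B : Type u} [CommRing A] [CommRing B] [Algebra A B]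
  {M K : Type u} [AddCommGroup M] [Module B M] [AddCommGroup K] [Module B K]

/-- Injective with flat cokernel implies injective on the fibre. -/
theorem fibInj_of_concl (u : M →ₗ[B] K) (q : PrimeSpectrum B) (h : Concl A u q) : FibInj A u q := by
  let L := Localization.AtPrime q.asIdeal
  let fM : M →ₗ[B] L ⊗[B] M := TensorProduct.mk B L M 1
  let fK : K →ₗ[B] L ⊗[B] K := TensorProduct.mk B L K 1
  haveI : IsLocalizedModule q.asIdeal.primeCompl fM :=
    (isLocalizedModule_iff_isBaseChange q.asIdeal.primeCompl L fM).2 (TensorProduct.isBaseChange B M L)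
  haveI : IsLocalizedModule q.asIdeal.primeCompl fK :=
    (isLocalizedModule_iff_isBaseChange q.asIdeal.primeCompl L fK).2 (TensorProduct.isBaseChange B K L)
  have hc : u.lTensor L ∘ₗ fM = fK ∘ₗ u := LinearMap.ext fun _ => rfl
  obtain ⟨hinj, hflat⟩ := (concl_iff (A := A) u q fM fK (u.lTensor L) hc).1 h
  haveI := hflat
  exact (fibInj_iff u q fM fK (u.lTensor L) hc).2 fun x hx => elementwise_of_flat (u.lTensor L) hinj _ x hx

omit [Algebra A B] in
/-- Injectivity of a map out of a cokernel. -/
theorem injective_iff_ker_le_range {X Y Z W : Type u} [AddCommGroup X] [Module B X] [AddCommGroup Y] [Module B Y]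
    [AddCommGroup Z] [Module B Z] [AddCommGroup W] [Module B W] (a : X →ₗ[B] Y) (b : Y →ₗ[B] Z) (u : Z →ₗ[B] W)
    (hex : Function.Exact a b) (hb : Function.Surjective b) :
    Function.Injective u ↔ LinearMap.ker (u ∘ₗ b) ≤ LinearMap.range a := by
  rw [← LinearMap.exact_iff.1 hex]
  refine ⟨fun h x hx => h (by rw [map_zero]; exact hx), fun h => (injective_iff_map_eq_zero u).2 fun z hz => ?_⟩
  obtain ⟨y, rfl⟩ := hb z
  exact h (show y ∈ LinearMap.ker (u ∘ₗ b) from hz)

end Abstract

section Matrices

variable {B : Type u} [CommRing B] (O : Type u) [CommRing O] [Algebra B O]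

theorem piScalarRight_mulVec {m n : ℕ} (φ : Matrix (Fin m) (Fin n) B) (z : O ⊗[B] (Fin n → B)) :
    TensorProduct.piScalarRight B B O (Fin m) (φ.mulVecLin.lTensor O z) =
      (φ.map (algebraMap B O)).mulVec (TensorProduct.piScalarRight B B O (Fin n) z) := by
  induction z using TensorProduct.induction_on with
  | zero => simp only [map_zero, Matrix.mulVec_zero]
  | add x y hx hy => simp only [map_add, Matrix.mulVec_add, hx, hy]
  | tmul o v =>
    funext i
    simp [Matrix.mulVec, dotProduct, Algebra.smul_def, map_sum, Finset.sum_mul, mul_assoc]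

/-- Injectivity of a map out of a cokernel after base change, in terms of matrices. -/
theorem injective_lTensor_quot_iff {m n l : ℕ} (φ : Matrix (Fin m) (Fin n) B) (ψ : Matrix (Fin n) (Fin l) B)
    (u : ((Fin n → B) ⧸ LinearMap.range ψ.mulVecLin) →ₗ[B] (Fin m → B))
    (hu : u ∘ₗ (LinearMap.range ψ.mulVecLin).mkQ = φ.mulVecLin) :
    Function.Injective (u.lTensor O) ↔
      LinearMap.ker (φ.map (algebraMap B O)).mulVecLin ≤ LinearMap.range (ψ.map (algebraMap B O)).mulVecLin := by
  rw [injective_iff_ker_le_range (ψ.mulVecLin.lTensor O) ((LinearMap.range ψ.mulVecLin).mkQ.lTensor O)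
    (u.lTensor O) (lTensor_exact O (LinearMap.exact_map_mkQ_range _) (Submodule.mkQ_surjective _))
    (LinearMap.lTensor_surjective O (Submodule.mkQ_surjective _)), ← LinearMap.lTensor_comp, hu]
  constructor
  · intro h x hx
    obtain ⟨z, rfl⟩ := (TensorProduct.piScalarRight B B O (Fin n)).surjective x
    rw [LinearMap.mem_ker, Matrix.mulVecLin_apply, ← piScalarRight_mulVec] at hx
    obtain ⟨w, rfl⟩ := h (show z ∈ LinearMap.ker (φ.mulVecLin.lTensor O) from
      (TensorProduct.piScalarRight B B O (Fin m)).injective (by rw [hx, map_zero]))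
    exact ⟨TensorProduct.piScalarRight B B O (Fin l) w, (piScalarRight_mulVec O ψ w).symm⟩
  · intro h z hz
    obtain ⟨v, hv⟩ := h (show TensorProduct.piScalarRight B B O (Fin n) z ∈
      LinearMap.ker (φ.map (algebraMap B O)).mulVecLin by
        rw [LinearMap.mem_ker, Matrix.mulVecLin_apply, ← piScalarRight_mulVec, LinearMap.mem_ker.1 hz, map_zero])
    obtain ⟨w, rfl⟩ := (TensorProduct.piScalarRight B B O (Fin l)).surjective v
    refine ⟨w, (TensorProduct.piScalarRight B B O (Fin n)).injective ?_⟩
    rw [piScalarRight_mulVec]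
    exact hv

end Matrices

/-- The locus where a zero-composite pair of matrices is exact in the fibre. -/
theorem isOpen_fibre_ker_le_range {A B : Type u} [CommRing A] [CommRing B] [Algebra A B]
    [Algebra.FinitePresentation A B] [Module.Flat A B] {m n l : ℕ} (φ : Matrix (Fin m) (Fin n) B)
    (ψ : Matrix (Fin n) (Fin l) B) (h : φ * ψ = 0) :
    IsOpen {q : PrimeSpectrum B |
      LinearMap.ker (φ.map (algebraMap B (EGA4.FibLocRing A B q.asIdeal))).mulVecLin ≤
        LinearMap.range (ψ.map (algebraMap B (EGA4.FibLocRing A B q.asIdeal))).mulVecLin} := by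
  haveI : Module.Flat A (Fin m → B) := Module.Flat.trans A B _
  have hle : LinearMap.range ψ.mulVecLin ≤ LinearMap.ker φ.mulVecLin := by
    rintro _ ⟨x, rfl⟩
    rw [LinearMap.mem_ker, Matrix.mulVecLin_apply, Matrix.mulVecLin_apply, Matrix.mulVec_mulVec, h, Matrix.zero_mulVec]
  haveI : Module.FinitePresentation B ((Fin n → B) ⧸ LinearMap.range ψ.mulVecLin) :=
    Module.finitePresentation_of_surjective _ (Submodule.mkQ_surjective _) (by
      rw [Submodule.ker_mkQ, LinearMap.range_eq_map]; exact Module.Finite.fg_top.map _)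
  let u := (LinearMap.range ψ.mulVecLin).liftQ φ.mulVecLin hle
  have hu : u ∘ₗ (LinearMap.range ψ.mulVecLin).mkQ = φ.mulVecLin := Submodule.liftQ_mkQ _ _ _
  convert isOpen_concl (A := A) u using 1
  ext q
  exact (injective_lTensor_quot_iff _ φ ψ u hu).symm.trans
    ⟨fun hq => concl_of_flat u q hq, fun hq => fibInj_of_concl u q hq⟩

end Groth.Agent.H1FibInj
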