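import Groth.Agent.H1FibInj.Poly
import Groth.Agent.FlatModel.Open
import Mathlib

/-!
# The fibrewise criterion for injectivity with flat cokernel
-/

universe u

set_option backward.isDefEq.respectTransparency false
set_option backward.isDefEq.respectTransparency.types false
set_option linter.style.haveILetI false
set_option maxHeartbeats 2000000
set_option synthInstance.maxHeartbeats 200000

open TensorProduct
open Groth.Agent.H1RectCons

namespace Groth.Agent.H1FibInj

/-- Injective near `q` with cokernel flat over `A`. -/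
def Concl (A : Type u) {B M K : Type u} [CommRing A] [CommRing B] [Algebra A B] [AddCommGroup M] [Module B M]
    [AddCommGroup K] [Module B K] (u : M →ₗ[B] K) (q : PrimeSpectrum B) : Prop :=
  Function.Injective (u.lTensor (Localization.AtPrime q.asIdeal)) ∧
    Module.Flat A (Localization.AtPrime q.asIdeal ⊗[B] (K ⧸ LinearMap.range u))

section Localized

variable {A B M K : Type u} [CommRing A] [CommRing B] [Algebra A B] [AddCommGroup M] [Module B M] [AddCommGroup K]
  [Module B K] (u : M →ₗ[B] K) (q : PrimeSpectrum B) {M' K' : Type u} [AddCommGroup M'] [Module B M'] [Module A M']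
  [IsScalarTower A B M'] [AddCommGroup K'] [Module B K'] [Module A K'] [IsScalarTower A B K']
  (fM : M →ₗ[B] M') (fK : K →ₗ[B] K') [IsLocalizedModule q.asIdeal.primeCompl fM]
  [IsLocalizedModule q.asIdeal.primeCompl fK] (u' : M' →ₗ[B] K')

theorem exists_comm (hcomp : u' ∘ₗ fM = fK ∘ₗ u) :
    ∃ (eM : Localization.AtPrime q.asIdeal ⊗[B] M ≃ₗ[B] M') (eK : Localization.AtPrime q.asIdeal ⊗[B] K ≃ₗ[B] K'),
      ∀ z, u' (eM z) = eK (u.lTensor (Localization.AtPrime q.asIdeal) z) := by
  let S := q.asIdeal.primeCompl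
  let L := Localization.AtPrime q.asIdeal
  let eM := IsLocalizedModule.linearEquiv S (TensorProduct.mk B L M 1) fM
  let eK := IsLocalizedModule.linearEquiv S (TensorProduct.mk B L K 1) fK
  refine ⟨eM, eK, fun z => ?_⟩
  have h : u' ∘ₗ eM.toLinearMap = eK.toLinearMap ∘ₗ u.lTensor L := by
    refine IsLocalizedModule.linearMap_ext S (TensorProduct.mk B L M 1) fK (LinearMap.ext fun x => ?_)
    show u' (eM (1 ⊗ₜ x)) = eK (1 ⊗ₜ u x)
    rw [show eM (1 ⊗ₜ x) = fM x from IsLocalizedModule.linearEquiv_apply S (TensorProduct.mk B L M 1) fM x,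
      show eK (1 ⊗ₜ u x) = fK (u x) from IsLocalizedModule.linearEquiv_apply S (TensorProduct.mk B L K 1) fK (u x)]
    exact LinearMap.congr_fun hcomp x
  exact LinearMap.congr_fun h z

theorem mem_smul_top_iff {X Y : Type u} [AddCommGroup X] [Module A X] [AddCommGroup Y] [Module A Y] (e : X ≃ₗ[A] Y)
    (I : Ideal A) (x : X) : e x ∈ I • (⊤ : Submodule A Y) ↔ x ∈ I • (⊤ : Submodule A X) := by
  have h : (I • (⊤ : Submodule A X)).map e.toLinearMap = I • ⊤ := by
    rw [Submodule.map_smul'', Submodule.map_top, LinearEquiv.range]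
  rw [← h, Submodule.mem_map_equiv, LinearEquiv.symm_apply_apply]

/-- The hypothesis in terms of elements. -/
theorem fibInj_iff (hcomp : u' ∘ₗ fM = fK ∘ₗ u) :
    FibInj A u q ↔ ∀ x, u' x ∈ (q.asIdeal.comap (algebraMap A B)) • (⊤ : Submodule A K') →
      x ∈ (q.asIdeal.comap (algebraMap A B)) • (⊤ : Submodule A M') := by
  obtain ⟨eM, eK, he⟩ := exists_comm u q fM fK u' hcomp
  let L := Localization.AtPrime q.asIdeal
  let p := q.asIdeal.comap (algebraMap A B)
  let J := p.map (algebraMap A L)
  have key : ∀ {X : Type u} [AddCommGroup X] [Module B X] (x : L ⊗[B] X),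
      ((1 : L ⧸ J) ⊗ₜ[L] x = 0 ↔ x ∈ p • (⊤ : Submodule A (L ⊗[B] X))) := fun {X} _ _ x => by
    rw [S0393.one_tmul_eq_zero_iff, ← Submodule.restrictScalars_mem A, Ideal.smul_restrictScalars,
      Submodule.restrictScalars_top]
  have h1 : FibInj A u q ↔ ∀ x : L ⊗[B] M, (1 : L ⧸ J) ⊗ₜ[L] u.baseChange L x = 0 →
      (1 : L ⧸ J) ⊗ₜ[L] x = 0 := by
    rw [show FibInj A u q ↔ Function.Injective ((u.baseChange L).lTensor (L ⧸ J)) from
      (injective_lTensor_cancel (S := L) (T := EGA4.FibLocRing A B q.asIdeal) u).symm, injective_iff_map_eq_zero]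
    refine ⟨fun h x hx => h _ hx, fun h z hz => ?_⟩
    obtain ⟨x, rfl⟩ := S0393.exists_one_tmul J z
    exact h x hz
  rw [h1]
  refine ⟨fun h x hx => ?_, fun h x hx => ?_⟩
  · obtain ⟨x, rfl⟩ := eM.surjective x
    refine (mem_smul_top_iff (eM.restrictScalars A) p x).2 ((key x).1 (h x ((key _).2 ?_)))
    refine (mem_smul_top_iff (eK.restrictScalars A) p _).1 ?_
    show eK (u.lTensor L x) ∈ _
    rw [← he]
    exact hx
  · refine (key x).2 ((mem_smul_top_iff (eM.restrictScalars A) p x).1 (h _ ?_))
    show u' (eM x) ∈ _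
    rw [he]
    exact (mem_smul_top_iff (eK.restrictScalars A) p _).2 ((key _).1 hx)

/-- The conclusion in terms of localized modules. -/
theorem concl_iff (hcomp : u' ∘ₗ fM = fK ∘ₗ u) :
    Concl A u q ↔ Function.Injective u' ∧ Module.Flat A (K' ⧸ LinearMap.range u') := by
  obtain ⟨eM, eK, he⟩ := exists_comm u q fM fK u' hcomp
  let L := Localization.AtPrime q.asIdeal
  have hfun : u' ∘ eM = eK ∘ u.lTensor L := funext he
  refine and_congr ?_ ?_
  · rw [← Function.Injective.of_comp_iff' u' eM.bijective, hfun, Function.Injective.of_comp_iff eK.injective]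
  have hmap : (LinearMap.range (u.lTensor L)).map eK.toLinearMap = LinearMap.range u' := by
    rw [← LinearMap.range_comp, show eK.toLinearMap ∘ₗ u.lTensor L = u' ∘ₗ eM.toLinearMap from
      LinearMap.ext fun z => (he z).symm, LinearMap.range_comp_of_range_eq_top _ (LinearEquiv.range _)]
  let π := (LinearMap.range u).mkQ.lTensor L
  have hπ : Function.Surjective π := LinearMap.lTensor_surjective L (Submodule.mkQ_surjective _)
  have hex : Function.Exact (u.lTensor L) π :=
    lTensor_exact L (LinearMap.exact_map_mkQ_range u) (Submodule.mkQ_surjective _)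
  let e : (K' ⧸ LinearMap.range u') ≃ₗ[B] L ⊗[B] (K ⧸ LinearMap.range u) :=
    (Submodule.Quotient.equiv _ _ eK hmap).symm ≪≫ₗ
      (Submodule.quotEquivOfEq _ _ (LinearMap.exact_iff.1 hex).symm) ≪≫ₗ π.quotKerEquivOfSurjective hπ
  exact ⟨fun h => haveI := h; Module.Flat.of_linearEquiv (e.restrictScalars A),
    fun h => haveI := h; Module.Flat.of_linearEquiv (e.restrictScalars A).symm⟩

end Localized

section Along

variable {A B C M K MC KC M' K' : Type u} [CommRing A] [CommRing B] [CommRing C] [Algebra A B] [Algebra A C]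
  [Algebra B C] [IsScalarTower A B C] [AddCommGroup M] [Module B M] [AddCommGroup K] [Module B K]
  [AddCommGroup MC] [Module C MC] [AddCommGroup KC] [Module C KC]
  [AddCommGroup M'] [Module A M'] [Module B M'] [Module C M'] [IsScalarTower A B M'] [IsScalarTower A C M']
  [IsScalarTower B C M']
  [AddCommGroup K'] [Module A K'] [Module B K'] [Module C K'] [IsScalarTower A B K'] [IsScalarTower A C K']
  [IsScalarTower B C K']
  (u : M →ₗ[B] K) (uC : MC →ₗ[C] KC) (q : PrimeSpectrum B) (q' : PrimeSpectrum C)
  (fM : M →ₗ[B] M') (fK : K →ₗ[B] K') [IsLocalizedModule q.asIdeal.primeCompl fM]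
  [IsLocalizedModule q.asIdeal.primeCompl fK]
  (gM : MC →ₗ[C] M') (gK : KC →ₗ[C] K') [IsLocalizedModule q'.asIdeal.primeCompl gM]
  [IsLocalizedModule q'.asIdeal.primeCompl gK] (u' : M' →ₗ[C] K')

/-- Two presentations of the same localized map. -/
theorem along (hq : PrimeSpectrum.comap (algebraMap B C) q' = q) (hcomp : u'.restrictScalars B ∘ₗ fM = fK ∘ₗ u)
    (hcomp' : u' ∘ₗ gM = gK ∘ₗ uC) :
    (FibInj A u q ↔ FibInj A uC q') ∧ (Concl A u q ↔ Concl A uC q') := by
  have hp : q.asIdeal.comap (algebraMap A B) = q'.asIdeal.comap (algebraMap A C) := by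
    subst hq
    show (q'.asIdeal.comap _).comap _ = _
    rw [Ideal.comap_comap, ← IsScalarTower.algebraMap_eq]
  refine ⟨?_, ?_⟩
  · rw [fibInj_iff u q fM fK _ hcomp, fibInj_iff uC q' gM gK u' hcomp', hp]
    exact Iff.rfl
  · rw [concl_iff u q fM fK _ hcomp, concl_iff uC q' gM gK u' hcomp']
    refine and_congr Iff.rfl ?_
    let e : (K' ⧸ LinearMap.range u') ≃ₗ[A] K' ⧸ LinearMap.range (u'.restrictScalars B) :=
      ((Submodule.Quotient.restrictScalarsEquiv B (LinearMap.range u')).symm ≪≫ₗ
        Submodule.quotEquivOfEq _ _ (LinearMap.range_restrictScalars u').symm).restrictScalars A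
    exact ⟨fun h => haveI := h; Module.Flat.of_linearEquiv e,
      fun h => haveI := h; Module.Flat.of_linearEquiv e.symm⟩

end Along

/-- Localized modules along a surjection. -/
theorem isLocalizedModule_restrict {P B : Type u} [CommRing P] [CommRing B] [Algebra P B]
    (hf : Function.Surjective (algebraMap P B)) (q : Ideal B) [q.IsPrime] {M M' : Type u} [AddCommGroup M]
    [Module B M] [Module P M] [IsScalarTower P B M] [AddCommGroup M'] [Module B M'] [Module P M']
    [IsScalarTower P B M'] (f : M →ₗ[B] M') [IsLocalizedModule q.primeCompl f] :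
    IsLocalizedModule (q.comap (algebraMap P B)).primeCompl (f.restrictScalars P) := by
  refine ⟨fun c => ?_, fun y => ?_, fun {x₁ x₂} h => ?_⟩
  · rw [Module.End.isUnit_iff]
    have h := (Module.End.isUnit_iff _).1 (IsLocalizedModule.map_units (S := q.primeCompl) (f := f)
      ⟨algebraMap P B c, c.2⟩)
    have heq : ∀ y : M', (c : P) • y = algebraMap P B c • y := fun y => (algebraMap_smul B (c : P) y).symm
    exact ⟨fun a b hab => h.1 ((heq a).symm.trans (hab.trans (heq b))), fun y => (h.2 y).imp fun z hz => (heq z).trans hz⟩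
  · obtain ⟨⟨m, s⟩, hs⟩ := IsLocalizedModule.surj q.primeCompl f y
    obtain ⟨c, hc⟩ := hf s
    refine ⟨(m, ⟨c, show algebraMap P B c ∉ q by rw [hc]; exact s.2⟩), ?_⟩
    show (c : P) • y = f m
    rw [← algebraMap_smul B c y, hc]
    exact hs
  · obtain ⟨s, hs⟩ := IsLocalizedModule.exists_of_eq (S := q.primeCompl) (f := f) h
    obtain ⟨c, hc⟩ := hf s
    refine ⟨⟨c, show algebraMap P B c ∉ q by rw [hc]; exact s.2⟩, ?_⟩
    show (c : P) • x₁ = (c : P) • x₂
    rw [← algebraMap_smul B c x₁, ← algebraMap_smul B c x₂, hc]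
    exact hs

section Surj

variable {A P B M K : Type u} [CommRing A] [CommRing P] [CommRing B] [Algebra A P] [Algebra A B] [Algebra P B]
  [IsScalarTower A P B] [AddCommGroup M] [Module B M] [Module P M] [IsScalarTower P B M]
  [AddCommGroup K] [Module B K] [Module P K] [IsScalarTower P B K]

/-- Both sides of the criterion may be computed over a ring surjecting onto `B`. -/
theorem surj_iff (hf : Function.Surjective (algebraMap P B)) (u : M →ₗ[B] K) (q : PrimeSpectrum B) :
    (FibInj A u q ↔ FibInj A (u.restrictScalars P) (PrimeSpectrum.comap (algebraMap P B) q)) ∧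
      (Concl A u q ↔ Concl A (u.restrictScalars P) (PrimeSpectrum.comap (algebraMap P B) q)) := by
  let L := Localization.AtPrime q.asIdeal
  let fM : M →ₗ[B] L ⊗[B] M := TensorProduct.mk B L M 1
  let fK : K →ₗ[B] L ⊗[B] K := TensorProduct.mk B L K 1
  haveI : IsScalarTower A P (L ⊗[B] M) := IsScalarTower.of_algebraMap_smul fun a k => by
    rw [← algebraMap_smul B (algebraMap A P a) k, ← IsScalarTower.algebraMap_apply, algebraMap_smul]
  haveI : IsScalarTower A P (L ⊗[B] K) := IsScalarTower.of_algebraMap_smul fun a k => by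
    rw [← algebraMap_smul B (algebraMap A P a) k, ← IsScalarTower.algebraMap_apply, algebraMap_smul]
  haveI : IsLocalizedModule (PrimeSpectrum.comap (algebraMap P B) q).asIdeal.primeCompl (fM.restrictScalars P) :=
    isLocalizedModule_restrict hf q.asIdeal fM
  haveI : IsLocalizedModule (PrimeSpectrum.comap (algebraMap P B) q).asIdeal.primeCompl (fK.restrictScalars P) :=
    isLocalizedModule_restrict hf q.asIdeal fK
  have h1 : (u.lTensor L).restrictScalars P ∘ₗ fM.restrictScalars P = fK.restrictScalars P ∘ₗ u.restrictScalars P :=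
    LinearMap.ext fun _ => rfl
  have h2 : u.lTensor L ∘ₗ fM = fK ∘ₗ u := LinearMap.ext fun _ => rfl
  have hal := along (A := A) (u.restrictScalars P) u (PrimeSpectrum.comap (algebraMap P B) q) q
    (fM.restrictScalars P) (fK.restrictScalars P) fM fK (u.lTensor L) rfl h1 h2
  exact ⟨hal.1.symm, hal.2.symm⟩

end Surj

section Flat

variable {A B : Type u} [CommRing A] [CommRing B] [Algebra A B] [Algebra.FinitePresentation A B]
  {M K : Type u} [AddCommGroup M] [Module B M] [Module.FinitePresentation B M] [AddCommGroup K] [Module B K]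
  [Module.FinitePresentation B K] [Module A K] [IsScalarTower A B K]

theorem concl_of_flat [Module.Flat A K] (u : M →ₗ[B] K) (q : PrimeSpectrum B) (h : FibInj A u q) : Concl A u q := by
  obtain ⟨N, φ, hf, hker⟩ := Algebra.FinitePresentation.out (R := A) (A := B)
  letI : Algebra (MvPolynomial (Fin N) A) B := φ.toRingHom.toAlgebra
  haveI : IsScalarTower A (MvPolynomial (Fin N) A) B :=
    IsScalarTower.of_algebraMap_eq fun a => (φ.commutes a).symm
  letI : Module (MvPolynomial (Fin N) A) M := Module.compHom M φ.toRingHom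
  letI : Module (MvPolynomial (Fin N) A) K := Module.compHom K φ.toRingHom
  haveI : IsScalarTower (MvPolynomial (Fin N) A) B M := IsScalarTower.of_algebraMap_smul fun _ _ => rfl
  haveI : IsScalarTower (MvPolynomial (Fin N) A) B K := IsScalarTower.of_algebraMap_smul fun _ _ => rfl
  haveI : IsScalarTower A (MvPolynomial (Fin N) A) K := IsScalarTower.of_algebraMap_smul fun a k => by
    show φ (algebraMap A (MvPolynomial (Fin N) A) a) • k = a • k
    rw [φ.commutes, algebraMap_smul]
  haveI : Module.FinitePresentation (MvPolynomial (Fin N) A) B :=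
    Module.finitePresentation_of_surjective (Algebra.linearMap (MvPolynomial (Fin N) A) B) hf (by
      rwa [show LinearMap.ker (Algebra.linearMap (MvPolynomial (Fin N) A) B) = RingHom.ker φ.toRingHom from
        Submodule.ext fun _ => Iff.rfl])
  haveI := Module.FinitePresentation.trans (MvPolynomial (Fin N) A) M B
  haveI := Module.FinitePresentation.trans (MvPolynomial (Fin N) A) K B
  have hal := surj_iff (A := A) (P := MvPolynomial (Fin N) A) hf u q
  exact hal.2.2 (criterion_poly _ _ (hal.1.1 h))

end Flat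

section Main

variable {A B : Type u} [CommRing A] [CommRing B] [Algebra A B] [Algebra.FinitePresentation A B]
  {M K : Type u} [AddCommGroup M] [Module B M] [Module.FinitePresentation B M] [AddCommGroup K] [Module B K]
  [Module.FinitePresentation B K]

/-- Injectivity on the fibre gives injectivity and a flat cokernel. -/
theorem concl_of_flatAt (u : M →ₗ[B] K) (q : PrimeSpectrum B)
    (hflat : Module.Flat A (Localization.AtPrime q.asIdeal ⊗[B] K)) (h : FibInj A u q) : Concl A u q := by
  letI : Module A K := Module.compHom K (algebraMap A B)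
  haveI : IsScalarTower A B K := IsScalarTower.of_algebraMap_smul fun _ _ => rfl
  haveI := hflat
  obtain ⟨g, hg, hW⟩ := FlatModel.exists_flat_nhd (R := A) K q.asIdeal
    (Module.Flat.of_linearEquiv ((LocalizedModule.equivTensorProduct q.asIdeal.primeCompl K).restrictScalars A))
  let B' := Localization.Away g
  haveI : Algebra.FinitePresentation B B' := IsLocalization.Away.finitePresentation g
  haveI : Algebra.FinitePresentation A B' := Algebra.FinitePresentation.trans A B B'
  haveI : Module.Flat A (B' ⊗[B] K) :=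
    haveI := hW (Submonoid.powers g) (Submonoid.mem_powers g)
    Module.Flat.of_linearEquiv ((LocalizedModule.equivTensorProduct (Submonoid.powers g) K).restrictScalars A).symm
  obtain ⟨q', hq'⟩ : q ∈ Set.range (PrimeSpectrum.comap (algebraMap B B')) := by
    rw [PrimeSpectrum.localization_away_comap_range B' g]; exact hg
  let L' := Localization.AtPrime q'.asIdeal
  haveI : IsLocalization.AtPrime L' q.asIdeal := by
    subst hq'
    exact IsLocalization.isLocalization_isLocalization_atPrime_isLocalization (Submonoid.powers g) L' q'.asIdeal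
  let fM' : B' ⊗[B] M →ₗ[B'] L' ⊗[B'] (B' ⊗[B] M) := TensorProduct.mk B' L' _ 1
  let fK' : B' ⊗[B] K →ₗ[B'] L' ⊗[B'] (B' ⊗[B] K) := TensorProduct.mk B' L' _ 1
  let fM : M →ₗ[B] L' ⊗[B'] (B' ⊗[B] M) := fM'.restrictScalars B ∘ₗ TensorProduct.mk B B' M 1
  let fK : K →ₗ[B] L' ⊗[B'] (B' ⊗[B] K) := fK'.restrictScalars B ∘ₗ TensorProduct.mk B B' K 1
  haveI : IsLocalizedModule q.asIdeal.primeCompl fM :=
    (isLocalizedModule_iff_isBaseChange q.asIdeal.primeCompl L' fM).2
      ((TensorProduct.isBaseChange B M B').comp (TensorProduct.isBaseChange B' _ L'))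
  haveI : IsLocalizedModule q.asIdeal.primeCompl fK :=
    (isLocalizedModule_iff_isBaseChange q.asIdeal.primeCompl L' fK).2
      ((TensorProduct.isBaseChange B K B').comp (TensorProduct.isBaseChange B' _ L'))
  have h1 : ((u.baseChange B').lTensor L').restrictScalars B ∘ₗ fM = fK ∘ₗ u := LinearMap.ext fun _ => rfl
  have h2 : (u.baseChange B').lTensor L' ∘ₗ fM' = fK' ∘ₗ u.baseChange B' := LinearMap.ext fun _ => rfl
  have hal := along (A := A) (M' := L' ⊗[B'] (B' ⊗[B] M)) (K' := L' ⊗[B'] (B' ⊗[B] K)) u (u.baseChange B') q q' fM fK fM' fK' ((u.baseChange B').lTensor L') hq' h1 h2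
  exact hal.2.2 (concl_of_flat (u.baseChange B') q' (hal.1.1 h))

/-- The criterion in terms of localized modules. -/
theorem criterion (u : M →ₗ[B] K) (q : PrimeSpectrum B) {M' K' : Type u} [AddCommGroup M'] [Module B M'] [Module A M']
    [IsScalarTower A B M'] [AddCommGroup K'] [Module B K'] [Module A K'] [IsScalarTower A B K']
    (fM : M →ₗ[B] M') (fK : K →ₗ[B] K') [IsLocalizedModule q.asIdeal.primeCompl fM]
    [IsLocalizedModule q.asIdeal.primeCompl fK] (u' : M' →ₗ[B] K') (hcomp : u' ∘ₗ fM = fK ∘ₗ u)
    [Module.Flat A K']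
    (h : ∀ x, u' x ∈ (q.asIdeal.comap (algebraMap A B)) • (⊤ : Submodule A K') →
      x ∈ (q.asIdeal.comap (algebraMap A B)) • (⊤ : Submodule A M')) :
    Function.Injective u' ∧ Module.Flat A (K' ⧸ LinearMap.range u') := by
  have hflat : Module.Flat A (Localization.AtPrime q.asIdeal ⊗[B] K) :=
    Module.Flat.of_linearEquiv ((IsLocalizedModule.linearEquiv q.asIdeal.primeCompl
      (TensorProduct.mk B (Localization.AtPrime q.asIdeal) K 1) fK).restrictScalars A)
  exact (concl_iff u q fM fK u' hcomp).1 (concl_of_flatAt u q hflat ((fibInj_iff u q fM fK u' hcomp).2 h))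

end Main

end Groth.Agent.H1FibInj
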