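import Groth.Agent.H1FibInj.Core
import Groth.Agent.FlatModel.Core
import Mathlib

/-!
# Fibre injectivity over polynomial algebras
-/

universe u

set_option backward.isDefEq.respectTransparency false
set_option backward.isDefEq.respectTransparency.types false
set_option linter.style.haveILetI false
set_option maxHeartbeats 2000000
set_option synthInstance.maxHeartbeats 200000

open TensorProduct
open Groth.Agent.H1RectCons Groth.Agent.FlatModel

namespace Groth.Agent.H1FibInj

attribute [local instance] MvPolynomial.algebraMvPolynomial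

variable {A₀ A : Type u} [CommRing A₀] [CommRing A] [Algebra A₀ A] {N : ℕ} {a b c : ℕ}

theorem piScalarRight_one (v : V a N A₀) :
    TensorProduct.piScalarRight (MvPolynomial (Fin N) A₀) (MvPolynomial (Fin N) A) (MvPolynomial (Fin N) A) (Fin a)
      (1 ⊗ₜ v) = mapV (algebraMap A₀ A) v := by
  funext i
  rw [TensorProduct.piScalarRight_apply, TensorProduct.piScalarRightHom_tmul]
  show v i • (1 : MvPolynomial (Fin N) A) = _
  rw [Algebra.smul_def, mul_one, MvPolynomial.algebraMap_def, mapV_apply]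

variable (A) in
/-- The map of free modules with the same matrix over the larger base. -/
noncomputable def bcLin (g₀ : V b N A₀ →ₗ[MvPolynomial (Fin N) A₀] V a N A₀) :
    V b N A →ₗ[MvPolynomial (Fin N) A] V a N A :=
  (TensorProduct.piScalarRight (MvPolynomial (Fin N) A₀) (MvPolynomial (Fin N) A) (MvPolynomial (Fin N) A)
      (Fin a)).toLinearMap ∘ₗ g₀.baseChange (MvPolynomial (Fin N) A) ∘ₗ
    (TensorProduct.piScalarRight (MvPolynomial (Fin N) A₀) (MvPolynomial (Fin N) A) (MvPolynomial (Fin N) A)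
      (Fin b)).symm.toLinearMap

theorem bcLin_mapV (g₀ : V b N A₀ →ₗ[MvPolynomial (Fin N) A₀] V a N A₀) (v : V b N A₀) :
    bcLin A g₀ (mapV (algebraMap A₀ A) v) = mapV (algebraMap A₀ A) (g₀ v) := by
  rw [bcLin, LinearMap.comp_apply, LinearMap.comp_apply, LinearEquiv.coe_coe, LinearEquiv.coe_coe,
    ← piScalarRight_one v, LinearEquiv.symm_apply_apply, LinearMap.baseChange_tmul, piScalarRight_one]

theorem mapV_single (j : Fin b) :
    mapV (algebraMap A₀ A) (Pi.single j 1 : V b N A₀) = (Pi.single j 1 : V b N A) := by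
  funext i
  rcases eq_or_ne i j with rfl | h
  · simp
  · simp [Pi.single_eq_of_ne h]

theorem ext_mapV {F : Type u} [AddCommGroup F] [Module (MvPolynomial (Fin N) A) F]
    {φ ψ : V b N A →ₗ[MvPolynomial (Fin N) A] F}
    (h : ∀ v : V b N A₀, φ (mapV (algebraMap A₀ A) v) = ψ (mapV (algebraMap A₀ A) v)) : φ = ψ := by
  refine (Pi.basisFun _ _).ext fun j => ?_
  rw [Pi.basisFun_apply, ← mapV_single (A₀ := A₀) j]
  exact h _

theorem bcLin_comp (f₀ : V b N A₀ →ₗ[MvPolynomial (Fin N) A₀] V a N A₀)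
    (g₀ : V c N A₀ →ₗ[MvPolynomial (Fin N) A₀] V b N A₀) : bcLin A (f₀ ∘ₗ g₀) = bcLin A f₀ ∘ₗ bcLin A g₀ :=
  ext_mapV (A₀ := A₀) fun v => by
    rw [LinearMap.comp_apply, bcLin_mapV, bcLin_mapV, bcLin_mapV, LinearMap.comp_apply]

theorem bcLin_trans {A₁ : Type u} [CommRing A₁] [Algebra A₀ A₁] [Algebra A₁ A] [IsScalarTower A₀ A₁ A]
    (g₀ : V b N A₀ →ₗ[MvPolynomial (Fin N) A₀] V a N A₀) : bcLin A (bcLin A₁ g₀) = bcLin A g₀ :=
  ext_mapV (A₀ := A₀) fun v => by
    rw [bcLin_mapV, IsScalarTower.algebraMap_eq A₀ A₁ A, ← mapV_mapV, bcLin_mapV, bcLin_mapV, mapV_mapV]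

theorem bcLin_injective (hinj : Function.Injective (algebraMap A₀ A))
    {f₀ g₀ : V b N A₀ →ₗ[MvPolynomial (Fin N) A₀] V a N A₀} (h : bcLin A f₀ = bcLin A g₀) : f₀ = g₀ :=
  LinearMap.ext fun v => mapV_injective hinj (by rw [← bcLin_mapV, ← bcLin_mapV, h])

theorem exists_bcLin_eq (g : V b N A →ₗ[MvPolynomial (Fin N) A] V a N A)
    (hg : ∀ j i, ((g (Pi.single j 1) i).coeffs : Set A) ⊆ Set.range (algebraMap A₀ A)) :
    ∃ g₀ : V b N A₀ →ₗ[MvPolynomial (Fin N) A₀] V a N A₀, bcLin A g₀ = g := by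
  choose c hc using fun j i => Set.mem_range.1 (MvPolynomial.mem_range_map_iff_coeffs_subset.2 (hg j i))
  refine ⟨Fintype.linearCombination (MvPolynomial (Fin N) A₀) fun j i => c j i, (Pi.basisFun _ _).ext fun j => ?_⟩
  rw [Pi.basisFun_apply, ← mapV_single (A₀ := A₀) j, bcLin_mapV, Fintype.linearCombination_apply_single, one_smul]
  rw [mapV_single]
  exact funext fun i => hc j i

theorem range_bcLin (g₀ : V b N A₀ →ₗ[MvPolynomial (Fin N) A₀] V a N A₀) :
    LinearMap.range (bcLin A g₀) = KK (LinearMap.range g₀) A := by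
  apply le_antisymm
  · rintro _ ⟨x, rfl⟩
    rw [← Finset.univ_sum_single x, map_sum]
    refine Submodule.sum_mem _ fun j _ => ?_
    rw [show Pi.single j (x j) = x j • (Pi.single j 1 : V b N A) by
      rw [← Pi.single_smul, smul_eq_mul, mul_one], map_smul, ← mapV_single (A₀ := A₀) j, bcLin_mapV]
    exact Submodule.smul_mem _ _ (Submodule.subset_span ⟨_, ⟨_, rfl⟩, rfl⟩)
  · rw [KK, Submodule.span_le]
    rintro _ ⟨_, ⟨x, rfl⟩, rfl⟩
    exact ⟨mapV (algebraMap A₀ A) x, bcLin_mapV g₀ x⟩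

theorem exists_presentation_equiv (g₀ : V b N A₀ →ₗ[MvPolynomial (Fin N) A₀] V a N A₀)
    {M : Type u} [AddCommGroup M] [Module (MvPolynomial (Fin N) A) M] (f : V a N A →ₗ[MvPolynomial (Fin N) A] M)
    (hf : Function.Surjective f) (hex : Function.Exact (bcLin A g₀) f) :
    ∃ ε : MvPolynomial (Fin N) A ⊗[MvPolynomial (Fin N) A₀] (V a N A₀ ⧸ LinearMap.range g₀) ≃ₗ[MvPolynomial (Fin N) A] M,
      ∀ v : V a N A₀, ε (1 ⊗ₜ Submodule.Quotient.mk v) = f (mapV (algebraMap A₀ A) v) := by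
  let P₀ := MvPolynomial (Fin N) A₀
  let P := MvPolynomial (Fin N) A
  let π₀ := (LinearMap.range g₀).mkQ
  let en := TensorProduct.piScalarRight P₀ P P (Fin a)
  let em := TensorProduct.piScalarRight P₀ P P (Fin b)
  let φ := π₀.baseChange P ∘ₗ en.symm.toLinearMap
  have hφ : Function.Surjective φ :=
    (LinearMap.lTensor_surjective P (Submodule.mkQ_surjective _)).comp en.symm.surjective
  have hker : LinearMap.ker φ = LinearMap.ker f := by
    ext y
    have hexP : Function.Exact (g₀.baseChange P) (π₀.baseChange P) :=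
      lTensor_exact P (LinearMap.exact_map_mkQ_range g₀) (Submodule.mkQ_surjective _)
    show π₀.baseChange P (en.symm y) = 0 ↔ f y = 0
    rw [hexP _, hex y]
    constructor
    · rintro ⟨x, hx⟩
      refine ⟨em x, ?_⟩
      show en (g₀.baseChange P (em.symm (em x))) = y
      rw [em.symm_apply_apply, hx, en.apply_symm_apply]
    · rintro ⟨x, rfl⟩
      exact ⟨em.symm x, (en.symm_apply_apply _).symm⟩
  let e := ((φ.quotKerEquivOfSurjective hφ).symm ≪≫ₗ Submodule.quotEquivOfEq _ _ hker) ≪≫ₗ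
    f.quotKerEquivOfSurjective hf
  have he : ∀ y, e (φ y) = f y := fun y => by
    show f.quotKerEquivOfSurjective hf (Submodule.quotEquivOfEq _ _ hker ((φ.quotKerEquivOfSurjective hφ).symm (φ y))) = f y
    rw [← φ.quotKerEquivOfSurjective_apply_mk hφ y, LinearEquiv.symm_apply_apply, Submodule.quotEquivOfEq_mk,
      f.quotKerEquivOfSurjective_apply_mk hf]
  refine ⟨e, fun v => ?_⟩
  have h1 := he (en (1 ⊗ₜ v))
  rw [piScalarRight_one] at h1
  rw [← h1]
  refine congrArg e ?_
  show _ = π₀.baseChange P (en.symm (mapV (algebraMap A₀ A) v))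
  rw [← piScalarRight_one v, en.symm_apply_apply]
  rfl

/-- The cokernel commutes with base change. -/
theorem exists_coker_equiv {S T M K : Type u} [CommRing S] [CommRing T] [Algebra S T] [AddCommGroup M] [Module S M]
    [AddCommGroup K] [Module S K] (f : M →ₗ[S] K) :
    Nonempty (((T ⊗[S] K) ⧸ LinearMap.range (f.baseChange T)) ≃ₗ[T] T ⊗[S] (K ⧸ LinearMap.range f)) := by
  have hπ : Function.Surjective ((LinearMap.range f).mkQ.baseChange T) :=
    LinearMap.lTensor_surjective T (Submodule.mkQ_surjective _)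
  have hex : Function.Exact (f.baseChange T) ((LinearMap.range f).mkQ.baseChange T) :=
    lTensor_exact T (LinearMap.exact_map_mkQ_range f) (Submodule.mkQ_surjective _)
  exact ⟨(Submodule.quotEquivOfEq _ _ (LinearMap.exact_iff.1 hex).symm).trans
    (((LinearMap.range f).mkQ.baseChange T).quotKerEquivOfSurjective hπ)⟩

theorem ext_one_tmul {S T M K : Type u} [CommRing S] [CommRing T] [Algebra S T] [AddCommGroup M] [Module S M]
    [AddCommGroup K] [Module T K] {φ ψ : T ⊗[S] M →ₗ[T] K} (h : ∀ x, φ (1 ⊗ₜ x) = ψ (1 ⊗ₜ x)) : φ = ψ := by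
  refine LinearMap.ext fun z => ?_
  induction z using TensorProduct.induction_on with
  | zero => simp
  | add x y hx hy => simp only [map_add, hx, hy]
  | tmul p x =>
    rw [show p ⊗ₜ[S] x = p • ((1 : T) ⊗ₜ[S] x) by rw [TensorProduct.smul_tmul', smul_eq_mul, mul_one], map_smul,
      map_smul, h]

theorem flat_tensor_congr {R B L M K : Type u} [CommRing R] [CommRing B] [Algebra R B] [CommRing L] [Algebra B L]
    [Algebra R L] [IsScalarTower R B L] [AddCommGroup M] [Module B M] [AddCommGroup K] [Module B K] (e : M ≃ₗ[B] K)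
    (h : Module.Flat R (L ⊗[B] M)) : Module.Flat R (L ⊗[B] K) :=
  haveI := h
  Module.Flat.of_linearEquiv ((LinearEquiv.baseChange B L _ _ e).restrictScalars R).symm

theorem KK_self {R₁ : Type u} [CommRing R₁] (K₀ : Submodule (MvPolynomial (Fin N) R₁) (V a N R₁)) :
    KK K₀ R₁ = K₀ := by
  rw [KK, Algebra.algebraMap_self, show (mapV (RingHom.id R₁) : V a N R₁ → V a N R₁) = id from
    funext fun x => funext fun i => MvPolynomial.map_id _, Set.image_id, Submodule.span_eq]

theorem flat_quot_of_flatC {R₁ : Type u} [CommRing R₁] {K₀ : Submodule (MvPolynomial (Fin N) R₁) (V a N R₁)}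
    (h : FlatC K₀ R₁) : Module.Flat R₁ (V a N R₁ ⧸ K₀) := by
  haveI := (flatC_iff_flat K₀).1 h
  exact Module.Flat.of_linearEquiv ((Submodule.quotEquivOfEq _ _ (KK_self K₀)).restrictScalars R₁).symm

theorem flatC_range {R₁ : Type u} [CommRing R₁] [Algebra A₀ R₁]
    (g₀ : V b N A₀ →ₗ[MvPolynomial (Fin N) A₀] V a N A₀) (h : FlatC (LinearMap.range g₀) R₁) :
    FlatC (LinearMap.range (bcLin R₁ g₀)) R₁ := by
  intro J x hx hxJ
  rw [KK_self, range_bcLin] at hx
  rw [KK_self, range_bcLin]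
  exact h J x hx hxJ

theorem flatC_of_exact (g₀ : V b N A₀ →ₗ[MvPolynomial (Fin N) A₀] V a N A₀)
    {K : Type u} [AddCommGroup K] [Module (MvPolynomial (Fin N) A) K] [Module A K]
    [IsScalarTower A (MvPolynomial (Fin N) A) K] [Module.Flat A K]
    (f : V a N A →ₗ[MvPolynomial (Fin N) A] K) (hf : Function.Surjective f)
    (hex : Function.Exact (bcLin A g₀) f) : FlatC (LinearMap.range g₀) A := by
  refine (flatC_iff_flat _).2 ?_
  have hk : KK (LinearMap.range g₀) A = LinearMap.ker f := by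
    rw [← range_bcLin, LinearMap.exact_iff.1 hex]
  exact Module.Flat.of_linearEquiv
    (((Submodule.quotEquivOfEq _ _ hk).trans (f.quotKerEquivOfSurjective hf)).restrictScalars A)

variable (A) in
/-- The criterion from presentations over a Noetherian base. -/
theorem criterion_of_matrices {R₁ : Type u} [CommRing R₁] [IsNoetherianRing R₁] [Algebra R₁ A] {n m a b : ℕ}
    (g : V m N R₁ →ₗ[MvPolynomial (Fin N) R₁] V n N R₁) (h : V b N R₁ →ₗ[MvPolynomial (Fin N) R₁] V a N R₁)
    (v : V n N R₁ →ₗ[MvPolynomial (Fin N) R₁] V a N R₁) (w : V m N R₁ →ₗ[MvPolynomial (Fin N) R₁] V b N R₁)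
    (hsq : v ∘ₗ g = h ∘ₗ w) (hflat : FlatC (LinearMap.range h) R₁)
    {M K : Type u} [AddCommGroup M] [Module (MvPolynomial (Fin N) A) M] [AddCommGroup K]
    [Module (MvPolynomial (Fin N) A) K] [Module A K] [IsScalarTower A (MvPolynomial (Fin N) A) K]
    (fM : V n N A →ₗ[MvPolynomial (Fin N) A] M) (hfM : Function.Surjective fM)
    (hexM : Function.Exact (bcLin A g) fM)
    (fK : V a N A →ₗ[MvPolynomial (Fin N) A] K) (hfK : Function.Surjective fK)
    (hexK : Function.Exact (bcLin A h) fK)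
    (u : M →ₗ[MvPolynomial (Fin N) A] K) (hu : u ∘ₗ fM = fK ∘ₗ bcLin A v)
    (q : PrimeSpectrum (MvPolynomial (Fin N) A)) (hq : FibInj A u q) :
    Function.Injective (u.lTensor (Localization.AtPrime q.asIdeal)) ∧
      Module.Flat A (Localization.AtPrime q.asIdeal ⊗[MvPolynomial (Fin N) A] (K ⧸ LinearMap.range u)) := by
  let P₁ := MvPolynomial (Fin N) R₁
  let P := MvPolynomial (Fin N) A
  obtain ⟨εM, hεM⟩ := exists_presentation_equiv g fM hfM hexM
  obtain ⟨εK, hεK⟩ := exists_presentation_equiv h fK hfK hexK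
  have hle : LinearMap.range g ≤ (LinearMap.range h).comap v := by
    rintro _ ⟨x, rfl⟩
    exact ⟨w x, (LinearMap.congr_fun hsq x).symm⟩
  let u₁ : (V n N R₁ ⧸ LinearMap.range g) →ₗ[P₁] (V a N R₁ ⧸ LinearMap.range h) := Submodule.mapQ _ _ v hle
  haveI : Module.Flat R₁ (V a N R₁ ⧸ LinearMap.range h) := flat_quot_of_flatC hflat
  have hcomm : u ∘ₗ εM.toLinearMap = εK.toLinearMap ∘ₗ u₁.baseChange P := ext_one_tmul fun x => by
    obtain ⟨x, rfl⟩ := Submodule.Quotient.mk_surjective _ x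
    rw [LinearMap.comp_apply, LinearMap.comp_apply, LinearMap.baseChange_tmul, LinearEquiv.coe_coe,
      LinearEquiv.coe_coe, hεM, show u₁ (Submodule.Quotient.mk x) = Submodule.Quotient.mk (v x) from rfl,
      hεK, ← bcLin_mapV]
    exact LinearMap.congr_fun hu _
  obtain ⟨hinj, hfl⟩ := model_criterion R₁ A u₁ q ((fibInj_congr εM εK hcomm q).2 hq)
  refine ⟨(injective_congr_equiv εM εK hcomm).1 hinj, ?_⟩
  obtain ⟨ec⟩ := exists_coker_equiv (T := P) u₁
  have hmap : (LinearMap.range (u₁.baseChange P)).map εK.toLinearMap = LinearMap.range u := by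
    rw [← LinearMap.range_comp, ← hcomm, LinearMap.range_comp_of_range_eq_top _ (LinearEquiv.range _)]
  let e := ec.symm.trans (Submodule.Quotient.equiv _ _ εK hmap)
  exact flat_tensor_congr e hfl

/-- The criterion over a polynomial algebra, for a globally flat target. -/
theorem criterion_poly {M K : Type u} [AddCommGroup M] [Module (MvPolynomial (Fin N) A) M]
    [Module.FinitePresentation (MvPolynomial (Fin N) A) M] [AddCommGroup K] [Module (MvPolynomial (Fin N) A) K]
    [Module.FinitePresentation (MvPolynomial (Fin N) A) K] [Module A K]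
    [IsScalarTower A (MvPolynomial (Fin N) A) K] [Module.Flat A K]
    (u : M →ₗ[MvPolynomial (Fin N) A] K) (q : PrimeSpectrum (MvPolynomial (Fin N) A)) (hq : FibInj A u q) :
    Function.Injective (u.lTensor (Localization.AtPrime q.asIdeal)) ∧
      Module.Flat A (Localization.AtPrime q.asIdeal ⊗[MvPolynomial (Fin N) A] (K ⧸ LinearMap.range u)) := by
  classical
  let P := MvPolynomial (Fin N) A
  obtain ⟨n, m, fM, g, hfM, hexM⟩ := Module.FinitePresentation.exists_fin' P M
  obtain ⟨a, b, fK, h, hfK, hexK⟩ := Module.FinitePresentation.exists_fin' P K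
  choose cv hcv using fun i : Fin n => hfK (u (fM (Pi.single i 1)))
  let v : V n N A →ₗ[P] V a N A := Fintype.linearCombination P cv
  have hu : u ∘ₗ fM = fK ∘ₗ v := (Pi.basisFun _ _).ext fun i => by
    rw [Pi.basisFun_apply, LinearMap.comp_apply, LinearMap.comp_apply, Fintype.linearCombination_apply_single,
      one_smul, hcv]
  have hw : ∀ j : Fin m, v (g (Pi.single j 1)) ∈ Set.range h := fun j =>
    (hexK _).1 (by
      rw [← LinearMap.comp_apply fK v, ← hu, LinearMap.comp_apply, hexM.apply_apply_eq_zero, map_zero])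
  choose cw hcw using hw
  let w : V m N A →ₗ[P] V b N A := Fintype.linearCombination P cw
  have hsq : v ∘ₗ g = h ∘ₗ w := (Pi.basisFun _ _).ext fun j => by
    rw [Pi.basisFun_apply, LinearMap.comp_apply, LinearMap.comp_apply, Fintype.linearCombination_apply_single,
      one_smul, hcw]
  let S : Finset A := (Finset.univ.biUnion fun j => Finset.univ.biUnion fun i => (g (Pi.single j 1) i).coeffs) ∪
    (Finset.univ.biUnion fun j => Finset.univ.biUnion fun i => (h (Pi.single j 1) i).coeffs) ∪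
    (Finset.univ.biUnion fun j => Finset.univ.biUnion fun i => (v (Pi.single j 1) i).coeffs) ∪
    (Finset.univ.biUnion fun j => Finset.univ.biUnion fun i => (w (Pi.single j 1) i).coeffs)
  let R₀ := Algebra.adjoin ℤ (S : Set A)
  haveI : Algebra.FiniteType ℤ R₀ := (Subalgebra.fg_iff_finiteType R₀).1 ⟨S, rfl⟩
  haveI : IsNoetherianRing R₀ := Algebra.FiniteType.isNoetherianRing ℤ R₀
  have hS : ∀ x ∈ S, x ∈ Set.range (algebraMap R₀ A) := fun x hx => ⟨⟨x, Algebra.subset_adjoin hx⟩, rfl⟩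
  obtain ⟨g₀, hg₀⟩ := exists_bcLin_eq (A₀ := R₀) g fun j i x hx => hS x (by
    simp only [S, Finset.mem_union, Finset.mem_biUnion, Finset.mem_univ, true_and]
    exact Or.inl (Or.inl (Or.inl ⟨j, i, hx⟩)))
  obtain ⟨h₀, hh₀⟩ := exists_bcLin_eq (A₀ := R₀) h fun j i x hx => hS x (by
    simp only [S, Finset.mem_union, Finset.mem_biUnion, Finset.mem_univ, true_and]
    exact Or.inl (Or.inl (Or.inr ⟨j, i, hx⟩)))
  obtain ⟨v₀, hv₀⟩ := exists_bcLin_eq (A₀ := R₀) v fun j i x hx => hS x (by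
    simp only [S, Finset.mem_union, Finset.mem_biUnion, Finset.mem_univ, true_and]
    exact Or.inl (Or.inr ⟨j, i, hx⟩))
  obtain ⟨w₀, hw₀⟩ := exists_bcLin_eq (A₀ := R₀) w fun j i x hx => hS x (by
    simp only [S, Finset.mem_union, Finset.mem_biUnion, Finset.mem_univ, true_and]
    exact Or.inr ⟨j, i, hx⟩)
  have hsq₀ : v₀ ∘ₗ g₀ = h₀ ∘ₗ w₀ :=
    bcLin_injective (A := A) Subtype.val_injective (by rw [bcLin_comp, bcLin_comp, hv₀, hg₀, hh₀, hw₀, hsq])
  have hflatA : FlatC (LinearMap.range h₀) A := flatC_of_exact h₀ fK hfK (by rw [hh₀]; exact hexK)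
  obtain ⟨R₁, hR₁, hflat⟩ := exists_fg_flatC (LinearMap.range h₀) hflatA
  haveI : Algebra.FiniteType R₀ R₁ := (Subalgebra.fg_iff_finiteType R₁).1 hR₁
  haveI : IsNoetherianRing R₁ := Algebra.FiniteType.isNoetherianRing R₀ R₁
  have hflat₁ : FlatC (LinearMap.range (bcLin R₁ h₀)) R₁ := flatC_range h₀ hflat
  refine criterion_of_matrices A (bcLin R₁ g₀) (bcLin R₁ h₀) (bcLin R₁ v₀) (bcLin R₁ w₀)
    (by rw [← bcLin_comp, ← bcLin_comp, hsq₀]) hflat₁ fM hfM ?_ fK hfK ?_ u ?_ q hq
  · rwa [bcLin_trans, hg₀]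
  · rwa [bcLin_trans, hh₀]
  · rwa [bcLin_trans, hv₀]

end Groth.Agent.H1FibInj
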